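import Cfsg.Agent.Lib.ChevBN.Opp

/-!
The coordinates of elements of `U` at the simple roots, their behaviour under the torus, and the
reduction of a subgroup of `U` invariant under the torus to elements with one simple coordinate.
-/

set_option autoImplicit false
set_option linter.unusedSectionVars false

namespace Cfsg.Agent.Lib.ChevWC.Coord

open Cfsg.Lie Cfsg.Agent.Lib.ChevBN.Elem Cfsg.Agent.Lib.ChevBN.Table
open Cfsg.Agent.Lib.ChevBN.Rel Cfsg.Agent.Lib.ChevBN.Core Cfsg.Agent.Lib.ChevBN.Pair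
open Cfsg.Agent.Lib.ChevBN.Torus

variable {D : ChevalleyDatum} {F : Type*} [Field F] {η : ℕ → ℕ → ℤ}

variable (hR : Sys D F η) (hT : Tbl D)
include hR hT

theorem Yp_le_U (p : ℕ) : Yp hR p ≤ D.posUnipotent F := by
  rw [posUnipotent_eq hR.toAddRel, Yp]
  exact gen_mono _ (fun s hs => hs.1)

theorem c_of_mem_Yp {i : ℕ} (hi : i < D.rank) {c : F}
    (h : X hR.toAddRel (D.simple i) c ∈ Yp hR (D.simple i)) : c = 0 := by
  by_contra hc
  have h1 := A_norm_Yp hR hT hi h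
  rw [A_conj_X hR hi (hT.simple_lt hi), hT.w_simple i hi] at h1
  exact X_neg_not_mem_B hR hT (hT.simple_pos i hi)
    (mul_ne_zero (eta_ne hR hi (hT.simple_lt hi)) hc) (U_le_B hR hT (Yp_le_U hR hT _ h1))

/-- `u` has coordinate `t` at the `i`-th simple root. -/
def IsCo (i : ℕ) (u : GL D.Idx F) (t : F) : Prop :=
  ∃ a ∈ Yp hR (D.simple i), u = a * X hR.toAddRel (D.simple i) t

theorem IsCo.unique {i : ℕ} (hi : i < D.rank) {u : GL D.Idx F} {t t' : F}
    (h : IsCo hR i u t) (h' : IsCo hR i u t') : t = t' := by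
  obtain ⟨a, ha, rfl⟩ := h
  obtain ⟨a', ha', e⟩ := h'
  have h1 : X hR.toAddRel (D.simple i) (t + -t') = a⁻¹ * a' := by
    rw [← X_mul, ← X_inv]
    have : X hR.toAddRel (D.simple i) t = a⁻¹ * (a' * X hR.toAddRel (D.simple i) t') := by
      rw [← e]
      group
    rw [this]
    group
  have h2 := c_of_mem_Yp hR hT hi (c := t + -t') (by
    rw [h1]
    exact Subgroup.mul_mem _ (Subgroup.inv_mem _ ha) ha')
  rw [← sub_eq_add_neg] at h2
  exact sub_eq_zero.mp h2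

open Classical in
/-- The coordinate of `u` at the `i`-th simple root. -/
noncomputable def co (i : ℕ) (u : GL D.Idx F) : F :=
  if h : ∃ t, IsCo hR i u t then h.choose else 0

theorem co_eq {i : ℕ} (hi : i < D.rank) {u : GL D.Idx F} {t : F} (h : IsCo hR i u t) :
    co hR i u = t := by
  have hex : ∃ t, IsCo hR i u t := ⟨t, h⟩
  rw [co, dif_pos hex]
  exact IsCo.unique hR hT hi hex.choose_spec h

theorem isCo_of_mem {i : ℕ} (hi : i < D.rank) {u : GL D.Idx F} (hu : u ∈ D.posUnipotent F) :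
    IsCo hR i u (co hR i u) := by
  obtain ⟨a, ha, t, e⟩ := U_decomp hR hT hi hu
  have h : IsCo hR i u t := ⟨a, ha, e⟩
  rw [co_eq hR hT hi h]
  exact h

theorem IsCo.mul {i : ℕ} (hi : i < D.rank) {u v : GL D.Idx F} {t s : F}
    (h : IsCo hR i u t) (h' : IsCo hR i v s) : IsCo hR i (u * v) (t + s) := by
  obtain ⟨a, ha, rfl⟩ := h
  obtain ⟨a', ha', rfl⟩ := h'
  have h1 := X_norm_Yp hR hT hi (-t) ha'
  refine ⟨a * ((X hR.toAddRel (D.simple i) (-t))⁻¹ * a' * X hR.toAddRel (D.simple i) (-t)),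
    Subgroup.mul_mem _ ha h1, ?_⟩
  rw [← X_mul, X_inv, neg_neg]
  have e : X hR.toAddRel (D.simple i) (-t) = (X hR.toAddRel (D.simple i) t)⁻¹ := by
    rw [X_inv]
  rw [e]
  group

theorem co_mul {i : ℕ} (hi : i < D.rank) {u v : GL D.Idx F} (hu : u ∈ D.posUnipotent F)
    (hv : v ∈ D.posUnipotent F) : co hR i (u * v) = co hR i u + co hR i v :=
  co_eq hR hT hi ((isCo_of_mem hR hT hi hu).mul hR hT hi (isCo_of_mem hR hT hi hv))

theorem co_one {i : ℕ} (hi : i < D.rank) : co hR i (1 : GL D.Idx F) = 0 :=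
  co_eq hR hT hi ⟨1, Subgroup.one_mem _, by simp⟩

theorem co_inv {i : ℕ} (hi : i < D.rank) {u : GL D.Idx F} (hu : u ∈ D.posUnipotent F) :
    co hR i u⁻¹ = - co hR i u := by
  have h := co_mul hR hT hi (Subgroup.inv_mem _ hu) hu
  rw [inv_mul_cancel, co_one hR hT hi] at h
  exact eq_neg_of_add_eq_zero_left h.symm

theorem co_X_self {i : ℕ} (hi : i < D.rank) (t : F) :
    co hR i (X hR.toAddRel (D.simple i) t) = t :=
  co_eq hR hT hi ⟨1, Subgroup.one_mem _, by simp⟩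

theorem co_of_mem_Y {i : ℕ} (hi : i < D.rank) {a : GL D.Idx F} (ha : a ∈ Yp hR (D.simple i)) :
    co hR i a = 0 :=
  co_eq hR hT hi ⟨a, ha, by simp⟩

theorem co_X_other {i : ℕ} (hi : i < D.rank) {r : ℕ} (hr : D.IsPosRoot r) (hne : r ≠ D.simple i)
    (t : F) : co hR i (X hR.toAddRel r t) = 0 :=
  co_of_mem_Y hR hT hi (X_mem_gen _ (Ψ := {s | D.IsPosRoot s ∧ s ≠ D.simple i}) ⟨hr, hne⟩ t)

theorem mem_Y_of_co {i : ℕ} (hi : i < D.rank) {u : GL D.Idx F} (hu : u ∈ D.posUnipotent F)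
    (h : co hR i u = 0) : u ∈ Yp hR (D.simple i) := by
  obtain ⟨a, ha, e⟩ := isCo_of_mem hR hT hi hu
  rw [h, X_zero, mul_one] at e
  rwa [e]

/-- The torus normalises `U_p`. -/
theorem hP_norm_Yp {c : ℕ → F} (hc : ∀ j < D.rank, c j ≠ 0) (p : ℕ) {a : GL D.Idx F}
    (ha : a ∈ Yp hR p) : hP hR c * a * (hP hR c)⁻¹ ∈ Yp hR p := by
  refine gen_induction hR.toAddRel
    (P := fun a => hP hR c * a * (hP hR c)⁻¹ ∈ Yp hR p) (by simp) ?_ ?_ ha
  · intro s hs t
    rw [hP_conj hR hc hs.1.1]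
    exact X_mem_gen _ hs _
  · intro u v hu hv
    have e : hP hR c * (u * v) * (hP hR c)⁻¹ =
        (hP hR c * u * (hP hR c)⁻¹) * (hP hR c * v * (hP hR c)⁻¹) := by group
    rw [e]
    exact Subgroup.mul_mem _ hu hv

theorem co_hP {i : ℕ} (hi : i < D.rank) {c : ℕ → F} (hc : ∀ j < D.rank, c j ≠ 0) {u : GL D.Idx F}
    (hu : u ∈ D.posUnipotent F) :
    co hR i (hP hR c * u * (hP hR c)⁻¹) = chi D c (D.simple i) * co hR i u := by
  obtain ⟨a, ha, e⟩ := isCo_of_mem hR hT hi hu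
  apply co_eq hR hT hi
  refine ⟨_, hP_norm_Yp hR hT hc _ ha, ?_⟩
  rw [← hP_conj hR hc (hT.simple_lt hi)]
  conv_lhs => rw [e]
  group

theorem co_hV {i : ℕ} (hi : i < D.rank) {γ : F} (hγ : γ ≠ 0) (v : ℕ → ℤ) {u : GL D.Idx F}
    (hu : u ∈ D.posUnipotent F) :
    co hR i (hP hR (fun j => γ ^ v j) * u * (hP hR (fun j => γ ^ v j))⁻¹) =
      γ ^ (Ad D v (D.simple i)) * co hR i u := by
  rw [co_hP hR hT hi (fun j _ => zpow_ne_zero _ hγ) hu, chi_pow hγ]

/-- Kill all simple coordinates but one. -/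
theorem reduce {X : Subgroup (GL D.Idx F)} (hXU : X ≤ D.posUnipotent F)
    (hXH : ∀ c : ℕ → F, (∀ j < D.rank, c j ≠ 0) → ∀ x ∈ X, hP hR c * x * (hP hR c)⁻¹ ∈ X)
    (hmin : ∀ k < D.rank, ∀ l < D.rank, k ≠ l → ∃ (v : ℕ → ℤ) (γ : F), γ ≠ 0 ∧
      Ad D v (D.simple l) = 0 ∧ γ ^ (Ad D v (D.simple k)) ≠ 1) :
    ∀ x ∈ X, ∀ k < D.rank, co hR k x ≠ 0 →
      ∃ x' ∈ X, co hR k x' ≠ 0 ∧ ∀ l < D.rank, l ≠ k → co hR l x' = 0 := by
  classical
  have key : ∀ n : ℕ, ∀ x ∈ X, ((Finset.range D.rank).filter fun l => co hR l x ≠ 0).card = n →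
      ∀ k < D.rank, co hR k x ≠ 0 →
      ∃ x' ∈ X, co hR k x' ≠ 0 ∧ ∀ l < D.rank, l ≠ k → co hR l x' = 0 := by
    intro n
    induction n using Nat.strong_induction_on with
    | _ n ih =>
      intro x hx hn k hk hck
      by_cases hex : ∃ l < D.rank, l ≠ k ∧ co hR l x ≠ 0
      · obtain ⟨l, hl, hlk, hcl⟩ := hex
        obtain ⟨v, γ, hγ, hv0, hv1⟩ := hmin k hk l hl hlk.symm
        set h := hP hR (fun j => γ ^ v j) with hh
        have hcj : ∀ j < D.rank, γ ^ v j ≠ 0 := fun j _ => zpow_ne_zero _ hγ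
        set y := h * x * h⁻¹ * x⁻¹ with hy
        have hyX : y ∈ X := Subgroup.mul_mem _ (hXH _ hcj x hx) (Subgroup.inv_mem _ hx)
        have hco : ∀ m < D.rank, co hR m y =
            (γ ^ (Ad D v (D.simple m)) - 1) * co hR m x := by
          intro m hm
          have hxU := hXU hx
          have h1 : h * x * h⁻¹ ∈ D.posUnipotent F := hXU (hXH _ hcj x hx)
          rw [hy, co_mul hR hT hm h1 (Subgroup.inv_mem _ hxU), co_inv hR hT hm hxU,
            hh, co_hV hR hT hm hγ v hxU]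
          ring
        have hyk : co hR k y ≠ 0 := by
          rw [hco k hk]
          exact mul_ne_zero (sub_ne_zero.mpr hv1) hck
        have hlt : ((Finset.range D.rank).filter fun m => co hR m y ≠ 0).card < n := by
          rw [← hn]
          apply Finset.card_lt_card
          rw [Finset.ssubset_iff_of_subset]
          · refine ⟨l, by simp [hl, hcl], ?_⟩
            simp only [Finset.mem_filter, Finset.mem_range, not_and, not_not]
            intro _
            rw [hco l hl, hv0]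
            simp
          · intro m hm
            simp only [Finset.mem_filter, Finset.mem_range] at hm ⊢
            refine ⟨hm.1, fun h0 => hm.2 ?_⟩
            rw [hco m hm.1, h0, mul_zero]
        exact ih _ hlt y hyX rfl k hk hyk
      · push Not at hex
        exact ⟨x, hx, hck, fun l hl hlk => hex l hl hlk⟩
  intro x hx k hk hc
  exact key _ x hx rfl k hk hc

/-- All values occur at a simple coordinate once a non-zero one does. -/
theorem single {X : Subgroup (GL D.Idx F)} (hXU : X ≤ D.posUnipotent F)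
    (hXH : ∀ c : ℕ → F, (∀ j < D.rank, c j ≠ 0) → ∀ x ∈ X, hP hR c * x * (hP hR c)⁻¹ ∈ X)
    (hsq : ∀ t : F, ∃ a b : F, t = a ^ 2 - b ^ 2)
    (hdiag : ∀ k < D.rank, Ad D (fun j => if j = k then 1 else 0) (D.simple k) = 2)
    {k : ℕ} (hk : k < D.rank) {x : GL D.Idx F} (hx : x ∈ X) (hc : co hR k x ≠ 0)
    (hl : ∀ l < D.rank, l ≠ k → co hR l x = 0) (t : F) :
    ∃ x' ∈ X, co hR k x' = t ∧ ∀ l < D.rank, l ≠ k → co hR l x' = 0 := by
  have hsq1 : ∀ a : F, ∃ y ∈ X, co hR k y = a ^ 2 * co hR k x ∧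
      ∀ l < D.rank, l ≠ k → co hR l y = 0 := by
    intro a
    by_cases ha : a = 0
    · refine ⟨1, Subgroup.one_mem _, ?_, fun l hl' _ => co_one hR hT hl'⟩
      rw [co_one hR hT hk, ha]
      simp
    · have hcj : ∀ j < D.rank, a ^ (if j = k then (1 : ℤ) else 0) ≠ 0 :=
        fun j _ => zpow_ne_zero _ ha
      refine ⟨_, hXH _ hcj x hx, ?_, ?_⟩
      · rw [co_hV hR hT hk ha _ (hXU hx), hdiag k hk]
        norm_cast
      · intro l hl' hlk
        rw [co_hV hR hT hl' ha _ (hXU hx), hl l hl' hlk, mul_zero]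
  obtain ⟨a, b, hab⟩ := hsq (t / co hR k x)
  obtain ⟨y, hy, hy1, hy2⟩ := hsq1 a
  obtain ⟨z, hz, hz1, hz2⟩ := hsq1 b
  have hyU := hXU hy
  have hzU := hXU hz
  refine ⟨y * z⁻¹, Subgroup.mul_mem _ hy (Subgroup.inv_mem _ hz), ?_, ?_⟩
  · rw [co_mul hR hT hk hyU (Subgroup.inv_mem _ hzU), co_inv hR hT hk hzU, hy1, hz1]
    have : t = (a ^ 2 - b ^ 2) * co hR k x := by
      rw [← hab]
      field_simp
    rw [this]
    ring
  · intro l hl' hlk
    rw [co_mul hR hT hl' hyU (Subgroup.inv_mem _ hzU), co_inv hR hT hl' hzU, hy2 l hl' hlk,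
      hz2 l hl' hlk]
    simp

end Cfsg.Agent.Lib.ChevWC.Coord
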