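import Cfsg.Agent.Lib.ChevWC.Filt
import Cfsg.Agent.Lib.ChevBN.FastData

/-!
The table checks behind the main theorem on weakly closed subgroups of `U`.
-/

set_option autoImplicit false
set_option linter.unusedSectionVars false

namespace Cfsg.Agent.Lib.ChevWC.Data

open Cfsg.Lie Cfsg.Agent.Lib.ChevBN.Table Cfsg.Agent.Lib.ChevWC.Filt

instance (D : ChevalleyDatum) (r : ℕ) : Decidable (D.IsPosRoot r) := by
  unfold ChevalleyDatum.IsPosRoot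
  infer_instance

instance (D : ChevalleyDatum) (kmax r a b : ℕ) (κ : ℤ) (k : ℕ) :
    Decidable (WitAt D kmax r a b κ k) := by
  unfold WitAt
  infer_instance

/-- The weight used to kill a simple coordinate. -/
def vv (D : ChevalleyDatum) (l j₁ j₂ : ℕ) (j : ℕ) : ℤ :=
  if j = j₁ then D.cartan j₂ (D.simple l) else if j = j₂ then - D.cartan j₁ (D.simple l) else 0

/-- A weight killing the coordinate `l` but not `k`. -/
def MinorAt (D : ChevalleyDatum) (m2 : Bool) (k l j₁ j₂ : ℕ) : Prop :=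
  Ad D (vv D l j₁ j₂) (D.simple l) = 0 ∧
    (Ad D (vv D l j₁ j₂) (D.simple k) = 1 ∨ Ad D (vv D l j₁ j₂) (D.simple k) = -1 ∨
      (m2 = true ∧ (Ad D (vv D l j₁ j₂) (D.simple k) = 2 ∨ Ad D (vv D l j₁ j₂) (D.simple k) = -2)))

instance (D : ChevalleyDatum) (m2 : Bool) (k l j₁ j₂ : ℕ) : Decidable (MinorAt D m2 k l j₁ j₂) := by
  unfold MinorAt
  infer_instance

/-- The checks on the tables. -/
structure WTab (D : ChevalleyDatum) (kmax : ℕ) (m2 : Bool) (tbl : List (ℕ × ℕ × ℕ × ℤ × ℕ)) : Prop where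
  desc : ∀ r < D.nroots, D.IsPosRoot r → ∀ q < D.rank, D.IsPosRoot (D.reflectRoot q r) →
    D.reflectRoot q r < r → 0 ≤ Ad D (cr D r) (D.simple q)
  wit : ∀ r < D.nroots, D.IsPosRoot r → (∀ i < D.rank, r ≠ D.simple i) →
    ∃ w ∈ tbl, w.1 = r ∧ WitAt D kmax r w.2.1 w.2.2.1 w.2.2.2.1 w.2.2.2.2
  minor : ∀ k < D.rank, ∀ l < D.rank, k ≠ l → ∃ j₁ ∈ List.range D.rank, ∃ j₂ ∈ List.range D.rank,
    MinorAt D m2 k l j₁ j₂
  diag : ∀ k < D.rank, Ad D (fun j => if j = k then 1 else 0) (D.simple k) = 2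

/-- Witnesses for type G2. -/
def witG2 : List (ℕ × ℕ × ℕ × ℤ × ℕ) := [(8, 6, 7, 1, 1), (9, 7, 6, 1, 2), (10, 7, 6, 1, 3), (11, 6, 10, 1, 1)]

theorem t1_G2 : ∀ r < chevG2.nroots, chevG2.IsPosRoot r → ∀ q < chevG2.rank, chevG2.IsPosRoot (chevG2.reflectRoot q r) →
    chevG2.reflectRoot q r < r → 0 ≤ Ad chevG2 (cr chevG2 r) (chevG2.simple q) := by decide +kernel
theorem t2_G2 : ∀ r < chevG2.nroots, chevG2.IsPosRoot r → (∀ i < chevG2.rank, r ≠ chevG2.simple i) →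
    ∃ w ∈ witG2, w.1 = r ∧ WitAt chevG2 3 r w.2.1 w.2.2.1 w.2.2.2.1 w.2.2.2.2 := by decide +kernel
theorem t3_G2 : ∀ k < chevG2.rank, ∀ l < chevG2.rank, k ≠ l → ∃ j₁ ∈ List.range chevG2.rank, ∃ j₂ ∈ List.range chevG2.rank,
    MinorAt chevG2 true k l j₁ j₂ := by decide +kernel
theorem t4_G2 : ∀ k < chevG2.rank, Ad chevG2 (fun j => if j = k then 1 else 0) (chevG2.simple k) = 2 := by decide +kernel

theorem wtabG2 : WTab chevG2 3 true witG2 := ⟨t1_G2, t2_G2, t3_G2, t4_G2⟩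

/-- Witnesses for type B2. -/
def witB2 : List (ℕ × ℕ × ℕ × ℤ × ℕ) := [(6, 4, 5, 1, 1), (7, 5, 4, -1, 2)]

theorem t1_B2 : ∀ r < chevB2.nroots, chevB2.IsPosRoot r → ∀ q < chevB2.rank, chevB2.IsPosRoot (chevB2.reflectRoot q r) →
    chevB2.reflectRoot q r < r → 0 ≤ Ad chevB2 (cr chevB2 r) (chevB2.simple q) := by decide +kernel
theorem t2_B2 : ∀ r < chevB2.nroots, chevB2.IsPosRoot r → (∀ i < chevB2.rank, r ≠ chevB2.simple i) →
    ∃ w ∈ witB2, w.1 = r ∧ WitAt chevB2 3 r w.2.1 w.2.2.1 w.2.2.2.1 w.2.2.2.2 := by decide +kernel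
theorem t3_B2 : ∀ k < chevB2.rank, ∀ l < chevB2.rank, k ≠ l → ∃ j₁ ∈ List.range chevB2.rank, ∃ j₂ ∈ List.range chevB2.rank,
    MinorAt chevB2 true k l j₁ j₂ := by decide +kernel
theorem t4_B2 : ∀ k < chevB2.rank, Ad chevB2 (fun j => if j = k then 1 else 0) (chevB2.simple k) = 2 := by decide +kernel

theorem wtabB2 : WTab chevB2 3 true witB2 := ⟨t1_B2, t2_B2, t3_B2, t4_B2⟩

/-- Witnesses for type D4. -/
def witD4 : List (ℕ × ℕ × ℕ × ℤ × ℕ) := [(15, 12, 14, 1, 1), (16, 13, 14, 1, 1), (17, 12, 16, 1, 1), (19, 14, 18, 1, 1), (20, 12, 19, 1, 1), (21, 13, 19, 1, 1), (22, 12, 21, 1, 1), (23, 14, 22, 1, 1)]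

theorem t1_D4 : ∀ r < chevD4.nroots, chevD4.IsPosRoot r → ∀ q < chevD4.rank, chevD4.IsPosRoot (chevD4.reflectRoot q r) →
    chevD4.reflectRoot q r < r → 0 ≤ Ad chevD4 (cr chevD4 r) (chevD4.simple q) := by decide +kernel
theorem t2_D4 : ∀ r < chevD4.nroots, chevD4.IsPosRoot r → (∀ i < chevD4.rank, r ≠ chevD4.simple i) →
    ∃ w ∈ witD4, w.1 = r ∧ WitAt chevD4 3 r w.2.1 w.2.2.1 w.2.2.2.1 w.2.2.2.2 := by decide +kernel
theorem t3_D4 : ∀ k < chevD4.rank, ∀ l < chevD4.rank, k ≠ l → ∃ j₁ ∈ List.range chevD4.rank, ∃ j₂ ∈ List.range chevD4.rank,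
    MinorAt chevD4 true k l j₁ j₂ := by decide +kernel
theorem t4_D4 : ∀ k < chevD4.rank, Ad chevD4 (fun j => if j = k then 1 else 0) (chevD4.simple k) = 2 := by decide +kernel

theorem wtabD4 : WTab chevD4 3 true witD4 := ⟨t1_D4, t2_D4, t3_D4, t4_D4⟩

/-- Witnesses for type F4. -/
def witF4 : List (ℕ × ℕ × ℕ × ℤ × ℕ) := [(26, 24, 25, 1, 1), (28, 25, 27, 1, 1), (29, 24, 28, 1, 1), (30, 27, 25, -1, 2), (31, 24, 30, 1, 1), (32, 25, 31, 1, 1), (34, 27, 33, 1, 1), (35, 25, 34, 1, 1), (36, 24, 35, 1, 1), (37, 27, 35, 1, 1), (38, 24, 37, 1, 1), (39, 25, 38, 1, 1), (40, 27, 39, 1, 1), (41, 33, 30, -1, 2), (42, 24, 41, 1, 1), (43, 25, 42, 1, 1), (44, 27, 43, 1, 1), (45, 30, 42, -1, 1), (46, 25, 45, 1, 1), (47, 24, 46, 1, 1)]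

theorem t1_F4 : ∀ r < chevF4.nroots, chevF4.IsPosRoot r → ∀ q < chevF4.rank, chevF4.IsPosRoot (chevF4.reflectRoot q r) →
    chevF4.reflectRoot q r < r → 0 ≤ Ad chevF4 (cr chevF4 r) (chevF4.simple q) := by decide +kernel
theorem t2_F4 : ∀ r < chevF4.nroots, chevF4.IsPosRoot r → (∀ i < chevF4.rank, r ≠ chevF4.simple i) →
    ∃ w ∈ witF4, w.1 = r ∧ WitAt chevF4 3 r w.2.1 w.2.2.1 w.2.2.2.1 w.2.2.2.2 := by decide +kernel
theorem t3_F4 : ∀ k < chevF4.rank, ∀ l < chevF4.rank, k ≠ l → ∃ j₁ ∈ List.range chevF4.rank, ∃ j₂ ∈ List.range chevF4.rank,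
    MinorAt chevF4 true k l j₁ j₂ := by decide +kernel
theorem t4_F4 : ∀ k < chevF4.rank, Ad chevF4 (fun j => if j = k then 1 else 0) (chevF4.simple k) = 2 := by decide +kernel

theorem wtabF4 : WTab chevF4 3 true witF4 := ⟨t1_F4, t2_F4, t3_F4, t4_F4⟩

/-- Witnesses for type E6. -/
def witE6 : List (ℕ × ℕ × ℕ × ℤ × ℕ) := [(38, 36, 37, 1, 1), (40, 37, 39, 1, 1), (41, 36, 40, 1, 1), (43, 39, 42, 1, 1), (44, 37, 43, 1, 1), (45, 36, 44, 1, 1), (47, 39, 46, 1, 1), (48, 37, 47, 1, 1), (49, 36, 48, 1, 1), (50, 42, 47, 1, 1), (51, 37, 50, 1, 1), (52, 36, 51, 1, 1), (53, 39, 51, 1, 1), (54, 36, 53, 1, 1), (55, 37, 54, 1, 1), (57, 42, 56, 1, 1), (58, 39, 57, 1, 1), (59, 37, 58, 1, 1), (60, 36, 59, 1, 1), (61, 46, 58, 1, 1), (62, 37, 61, 1, 1), (63, 36, 62, 1, 1), (64, 39, 62, 1, 1), (65, 36, 64, 1, 1), (66, 37, 65, 1, 1), (67, 42, 64, 1, 1), (68, 36, 67, 1, 1), (69, 37, 68, 1,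 1), (70, 39, 69, 1, 1), (71, 46, 70, 1, 1)]

theorem t1_E6 : ∀ r < chevE6.nroots, chevE6.IsPosRoot r → ∀ q < chevE6.rank, chevE6.IsPosRoot (chevE6.reflectRoot q r) →
    chevE6.reflectRoot q r < r → 0 ≤ Ad chevE6 (cr chevE6 r) (chevE6.simple q) := by decide +kernel
theorem t2_E6 : ∀ r < chevE6.nroots, chevE6.IsPosRoot r → (∀ i < chevE6.rank, r ≠ chevE6.simple i) →
    ∃ w ∈ witE6, w.1 = r ∧ WitAt chevE6 1 r w.2.1 w.2.2.1 w.2.2.2.1 w.2.2.2.2 := by decide +kernel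
theorem t3_E6 : ∀ k < chevE6.rank, ∀ l < chevE6.rank, k ≠ l → ∃ j₁ ∈ List.range chevE6.rank, ∃ j₂ ∈ List.range chevE6.rank,
    MinorAt chevE6 false k l j₁ j₂ := by decide +kernel
theorem t4_E6 : ∀ k < chevE6.rank, Ad chevE6 (fun j => if j = k then 1 else 0) (chevE6.simple k) = 2 := by decide +kernel

theorem wtabE6 : WTab chevE6 1 false witE6 := ⟨t1_E6, t2_E6, t3_E6, t4_E6⟩

/-- Witnesses for type E7. -/
def witE7 : List (ℕ × ℕ × ℕ × ℤ × ℕ) := [(65, 63, 64, 1, 1), (67, 64, 66, 1, 1), (68, 63, 67, 1, 1), (70, 66, 69, 1, 1), (71, 64, 70, 1, 1), (72, 63, 71, 1, 1), (74, 69, 73, 1, 1), (75, 66, 74, 1, 1), (76, 64, 75, 1, 1), (77, 63, 76, 1, 1), (79, 69, 78, 1, 1), (80, 66, 79, 1, 1), (81, 64, 80, 1, 1), (82, 63, 81, 1, 1), (83, 73, 79, 1, 1), (84, 66, 83, 1, 1), (85, 64, 84, 1, 1), (86, 63, 85, 1, 1), (87, 69, 84, 1, 1), (88, 64, 87, 1, 1), (89, 63, 88, 1, 1), (90, 66,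 88, 1, 1), (91, 63, 90, 1, 1), (92, 64, 91, 1, 1), (94, 73, 93, 1, 1), (95, 69, 94, 1, 1), (96, 66, 95, 1, 1), (97, 64, 96, 1, 1), (98, 63, 97, 1, 1), (99, 78, 95, 1, 1), (100, 66, 99, 1, 1), (101, 64, 100, 1, 1), (102, 63, 101, 1, 1), (103, 69, 100, 1, 1), (104, 64, 103, 1, 1), (105, 63, 104, 1, 1), (106, 66, 104, 1, 1), (107, 63, 106, 1, 1), (108, 64, 107, 1, 1), (109, 73, 103, 1, 1), (110, 64, 109, 1, 1), (111, 63, 110, 1, 1), (112, 66, 110, 1, 1), (113, 63, 112, 1, 1), (114, 64, 113, 1, 1), (115, 69, 112, 1, 1), (116, 63, 115, 1, 1), (117, 64, 116, 1, 1), (118, 66, 117, 1, 1), (119, 78, 115, 1, 1), (120, 63, 119, 1, 1), (121, 64, 120, 1, 1), (122, 66, 121, 1, 1), (123, 69, 122, 1, 1), (124, 73, 123, 1, 1), (125, 93, 124, 1, 1)]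

theorem t1_E7 : ∀ r < chevE7.nroots, chevE7.IsPosRoot r → ∀ q < chevE7.rank, chevE7.IsPosRoot (chevE7.reflectRoot q r) →
    chevE7.reflectRoot q r < r → 0 ≤ Ad chevE7 (cr chevE7 r) (chevE7.simple q) := by decide +kernel
theorem t2_E7 : ∀ r < chevE7.nroots, chevE7.IsPosRoot r → (∀ i < chevE7.rank, r ≠ chevE7.simple i) →
    ∃ w ∈ witE7, w.1 = r ∧ WitAt chevE7 1 r w.2.1 w.2.2.1 w.2.2.2.1 w.2.2.2.2 := by decide +kernel
theorem t3_E7 : ∀ k < chevE7.rank, ∀ l < chevE7.rank, k ≠ l → ∃ j₁ ∈ List.range chevE7.rank, ∃ j₂ ∈ List.range chevE7.rank,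
    MinorAt chevE7 false k l j₁ j₂ := by decide +kernel
theorem t4_E7 : ∀ k < chevE7.rank, Ad chevE7 (fun j => if j = k then 1 else 0) (chevE7.simple k) = 2 := by decide +kernel

theorem wtabE7 : WTab chevE7 1 false witE7 := ⟨t1_E7, t2_E7, t3_E7, t4_E7⟩

/-- Witnesses for type E8. -/
def witE8 : List (ℕ × ℕ × ℕ × ℤ × ℕ) := [(122, 120, 121, 1, 1), (124, 121, 123, 1, 1), (125, 120, 124, 1, 1), (127, 123, 126, 1, 1), (128, 121, 127, 1, 1), (129, 120, 128, 1, 1), (131, 126, 130, 1, 1), (132, 123, 131, 1, 1), (133, 121, 132, 1, 1), (134, 120, 133, 1, 1), (136, 130, 135, 1, 1), (137, 126, 136, 1, 1), (138, 123, 137, 1, 1), (139, 121, 138, 1, 1), (140, 120, 139, 1, 1), (142, 130, 141, 1, 1), (143, 126, 142, 1, 1), (144, 123, 143, 1, 1), (145, 121, 144, 1, 1), (146, 120, 145, 1, 1), (147, 135, 142, 1, 1), (148, 126, 147, 1, 1), (149, 123, 148, 1, 1), (150, 121, 149, 1, 1), (151,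 120, 150, 1, 1), (152, 130, 148, 1, 1), (153, 123, 152, 1, 1), (154, 121, 153, 1, 1), (155, 120, 154, 1, 1), (156, 126, 153, 1, 1), (157, 121, 156, 1, 1), (158, 120, 157, 1, 1), (159, 123, 157, 1, 1), (160, 120, 159, 1, 1), (161, 121, 160, 1, 1), (163, 135, 162, 1, 1), (164, 130, 163, 1, 1), (165, 126, 164, 1, 1), (166, 123, 165, 1, 1), (167, 121, 166, 1, 1), (168, 120, 167, 1, 1), (169, 141, 164, 1, 1), (170, 126, 169, 1, 1), (171, 123, 170, 1, 1), (172, 121, 171, 1, 1), (173, 120, 172, 1, 1), (174, 130, 170, 1, 1), (175, 123, 174, 1, 1), (176, 121, 175, 1, 1), (177, 120, 176, 1, 1), (178, 126, 175, 1, 1), (179, 121, 178, 1, 1), (180, 120, 179, 1, 1), (181, 123, 179, 1, 1), (182, 120, 181, 1, 1), (183, 121, 182, 1, 1), (184, 135, 174, 1, 1), (185, 123, 184, 1, 1), (186, 121, 185, 1, 1), (187, 120, 186, 1, 1), (188, 126, 185, 1, 1), (189, 121, 188, 1, 1), (190, 120,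 189, 1, 1), (191, 123, 189, 1, 1), (192, 120, 191, 1, 1), (193, 121, 192, 1, 1), (194, 130, 188, 1, 1), (195, 121, 194, 1, 1), (196, 120, 195, 1, 1), (197, 123, 195, 1, 1), (198, 120, 197, 1, 1), (199, 121, 198, 1, 1), (200, 126, 197, 1, 1), (201, 120, 200, 1, 1), (202, 121, 201, 1, 1), (203, 123, 202, 1, 1), (204, 141, 194, 1, 1), (205, 121, 204, 1, 1), (206, 120, 205, 1, 1), (207, 123, 205, 1, 1), (208, 120, 207, 1, 1), (209, 121, 208, 1, 1), (210, 126, 207, 1, 1), (211, 120, 210, 1, 1), (212, 121, 211, 1, 1), (213, 123, 212, 1, 1), (214, 130, 210, 1, 1), (215, 120, 214, 1, 1), (216, 121, 215, 1, 1), (217, 123, 216, 1, 1), (218, 126, 217, 1, 1), (219, 135, 214, 1, 1), (220, 120, 219, 1, 1), (221, 121, 220, 1, 1), (222, 123, 221, 1, 1), (223, 126, 222, 1, 1), (224, 130, 223, 1, 1), (225, 141, 224, 1, 1), (226, 162, 219, 1, 1), (227, 120, 226, 1, 1), (228, 121, 227,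 1, 1), (229, 123, 228, 1, 1), (230, 126, 229, 1, 1), (231, 130, 230, 1, 1), (232, 135, 231, 1, 1), (233, 141, 231, 1, 1), (234, 135, 233, 1, 1), (235, 130, 234, 1, 1), (236, 126, 235, 1, 1), (237, 123, 236, 1, 1), (238, 121, 237, 1, 1), (239, 120, 238, 1, 1)]

theorem t1_E8 : ∀ r < chevE8.nroots, chevE8.IsPosRoot r → ∀ q < chevE8.rank, chevE8.IsPosRoot (chevE8.reflectRoot q r) →
    chevE8.reflectRoot q r < r → 0 ≤ Ad chevE8 (cr chevE8 r) (chevE8.simple q) := by decide +kernel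
theorem t2_E8 : ∀ r < chevE8.nroots, chevE8.IsPosRoot r → (∀ i < chevE8.rank, r ≠ chevE8.simple i) →
    ∃ w ∈ witE8, w.1 = r ∧ WitAt chevE8 1 r w.2.1 w.2.2.1 w.2.2.2.1 w.2.2.2.2 := by decide +kernel
theorem t3_E8 : ∀ k < chevE8.rank, ∀ l < chevE8.rank, k ≠ l → ∃ j₁ ∈ List.range chevE8.rank, ∃ j₂ ∈ List.range chevE8.rank,
    MinorAt chevE8 false k l j₁ j₂ := by decide +kernel
theorem t4_E8 : ∀ k < chevE8.rank, Ad chevE8 (fun j => if j = k then 1 else 0) (chevE8.simple k) = 2 := by decide +kernel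

theorem wtabE8 : WTab chevE8 1 false witE8 := ⟨t1_E8, t2_E8, t3_E8, t4_E8⟩

end Cfsg.Agent.Lib.ChevWC.Data
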