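import Cfsg.Agent.Lib.ChevWC.Word
import Cfsg.Agent.Lib.ChevWC.Coord

/-!
Weakly closed subgroups of `U`: the filtration of the radical by the index of the roots; the
commutator witnesses; the main theorem, from a list of hypotheses on the tables and the field.
-/

set_option autoImplicit false
set_option linter.unusedSectionVars false

namespace Cfsg.Agent.Lib.ChevWC.Filt

open Cfsg.Lie Cfsg.Agent.Lib.ChevBN.Elem Cfsg.Agent.Lib.ChevBN.Table
open Cfsg.Agent.Lib.ChevBN.Collect Cfsg.Agent.Lib.ChevBN.Rel Cfsg.Agent.Lib.ChevBN.Core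
open Cfsg.Agent.Lib.ChevBN.Pair Cfsg.Agent.Lib.ChevBN.Torus Cfsg.Agent.Lib.ChevBN.Monomial
open Cfsg.Agent.Lib.ChevBN.Stmts Cfsg.Agent.Lib.ChevBN.Levi
open Cfsg.Agent.Lib.ChevWC.Coord

variable {D : ChevalleyDatum} {F : Type*} [Field F] {η : ℕ → ℕ → ℤ}

/-- Supports in the commutator formula, for the first root. -/
theorem comm_support' (hT : Tbl D) (hT2 : Tbl2 D) {a s : ℕ} (ha : D.IsPosRoot a)
    (hs : D.IsPosRoot s) (has : a ≠ s) {c : ℕ × ℤ × ℕ × ℕ} (hc : c ∈ D.commTerms a s) {i : ℕ}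
    (hi : i < D.rank) (hne : cr D a i ≠ 0) : cr D c.1 i ≠ 0 := by
  have h1 : ∀ j k, D.chainRoot a s j = some k → cr D k i ≠ 0 := by
    intro j k h
    obtain ⟨q, hq, rfl⟩ := Cfsg.Agent.Lib.ChevBN.Fast.chainRoot_mem h
    exact (chain_support hT hT2 ha hs hq hi).2 hne
  have h2 : ∀ j k, D.chainRoot s a j = some k → cr D k i ≠ 0 := by
    intro j k h
    obtain ⟨q, hq, rfl⟩ := Cfsg.Agent.Lib.ChevBN.Fast.chainRoot_mem h
    exact (chain_support hT hT2 hs ha hq hi).1 hne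
  simp only [ChevalleyDatum.commTerms, List.mem_filterMap, List.mem_cons, List.not_mem_nil,
    or_false, Option.map_eq_some_iff] at hc
  obtain ⟨d, hd, k, hk, rfl⟩ := hc
  rcases hd with rfl | rfl | rfl | rfl | rfl | rfl | rfl
  · exact h1 _ _ hk
  · exact h1 _ _ hk
  · exact h2 _ _ hk
  · exact h1 _ _ hk
  · exact h2 _ _ hk
  · simp only [Option.bind_eq_some_iff] at hk
    obtain ⟨k₀, hk₀, hk⟩ := hk
    have h3 := chain3_pos hT ha hs has hk₀
    obtain ⟨q, hq, rfl⟩ := Cfsg.Agent.Lib.ChevBN.Fast.chainRoot_mem hk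
    exact (chain_support hT hT2 h3 hs hq hi).2 (h1 _ _ hk₀)
  · simp only [Option.bind_eq_some_iff] at hk
    obtain ⟨k₀, hk₀, hk⟩ := hk
    have h3 := chain3_pos hT hs ha has.symm hk₀
    obtain ⟨q, hq, rfl⟩ := Cfsg.Agent.Lib.ChevBN.Fast.chainRoot_mem hk
    exact (chain_support hT hT2 h3 ha hq hi).1 hne

/-- The positive roots outside `Φ_J` are closed under commutators, first root. -/
theorem comm_psiJ' (hT : Tbl D) (hT2 : Tbl2 D) {J : Set ℕ} {a s : ℕ} (ha : a ∈ psiJ D J)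
    (hs : D.IsPosRoot s) (has : a ≠ s) {c : ℕ × ℤ × ℕ × ℕ} (hc : c ∈ D.commTerms a s) :
    c.1 ∈ psiJ D J := by
  obtain ⟨ha1, ha2⟩ := ha
  refine ⟨(hT.comm_keys a s ha1 hs has c hc).2.2.1, ?_⟩
  obtain ⟨i, hi, hiJ, hne⟩ := exists_of_not_inRootSub ha1.1 ha2
  intro h
  exact comm_support' hT hT2 ha1 hs has hc hi hne (h.2 i hi hiJ)

/-- The roots of the filtration. -/
def S (D : ChevalleyDatum) (J : Set ℕ) (m : ℕ) : Set ℕ :=
  {r | r ∈ psiJ D J ∧ m ≤ r ∧ ∀ i < D.rank, r ≠ D.simple i}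

theorem S_mono {J : Set ℕ} {m m' : ℕ} (h : m ≤ m') : S D J m' ⊆ S D J m :=
  fun _ hr => ⟨hr.1, h.trans hr.2.1, hr.2.2⟩

theorem comm_S (hT : Tbl D) (hT2 : Tbl2 D) {J : Set ℕ} {m a s : ℕ} (ha : D.IsPosRoot a)
    (hs : s ∈ S D J m) (has : a ≠ s) {c : ℕ × ℤ × ℕ × ℕ} (hc : c ∈ D.commTerms a s) :
    c.1 ∈ S D J (m + 1) := by
  have h := hT.comm_keys a s ha hs.1.1 has c hc
  have h2 := hs.2.1
  exact ⟨comm_psiJ hT hT2 ha hs.1 has hc, by omega, h.2.2.2⟩

theorem comm_S' (hT : Tbl D) (hT2 : Tbl2 D) {J : Set ℕ} {m a s : ℕ} (ha : a ∈ S D J m)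
    (hs : D.IsPosRoot s) (has : a ≠ s) {c : ℕ × ℤ × ℕ × ℕ} (hc : c ∈ D.commTerms a s) :
    c.1 ∈ S D J (m + 1) := by
  have h := hT.comm_keys a s ha.1.1 hs has c hc
  have h2 := ha.2.1
  exact ⟨comm_psiJ' hT hT2 ha.1 hs has hc, by omega, h.2.2.2⟩

/-- A normaliser of two subgroups normalises their join. -/
theorem norm_sup {G : Type*} [Group G] {A B : Subgroup G} {w : G}
    (hA : w ∈ Subgroup.normalizer (A : Set G)) (hB : w ∈ Subgroup.normalizer (B : Set G)) :
    w ∈ Subgroup.normalizer ((A ⊔ B : Subgroup G) : Set G) := by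
  have key : ∀ w : G, w ∈ Subgroup.normalizer (A : Set G) → w ∈ Subgroup.normalizer (B : Set G) →
      ∀ g ∈ A ⊔ B, w * g * w⁻¹ ∈ A ⊔ B := by
    intro w hA hB g hg
    have hle : A ⊔ B ≤ (A ⊔ B).comap (MulAut.conj w).toMonoidHom := by
      refine sup_le ?_ ?_
      · intro x hx
        exact Subgroup.mem_sup_left ((Subgroup.mem_normalizer_iff.mp hA x).mp hx)
      · intro x hx
        exact Subgroup.mem_sup_right ((Subgroup.mem_normalizer_iff.mp hB x).mp hx)
    exact hle hg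
  rw [Subgroup.mem_normalizer_iff]
  intro g
  refine ⟨key w hA hB g, fun h => ?_⟩
  have := key w⁻¹ (Subgroup.inv_mem _ hA) (Subgroup.inv_mem _ hB) _ h
  simpa [mul_assoc] using this

/-- The elements of `U` with commutator with `w` in `K`. -/
def commSub {G : Type*} [Group G] (U K : Subgroup G) (w : G)
    (hK : ∀ y ∈ U, ∀ g ∈ K, y * g * y⁻¹ ∈ K) : Subgroup G where
  carrier := {y | y ∈ U ∧ y * w * y⁻¹ * w⁻¹ ∈ K}
  one_mem' := ⟨U.one_mem, by simp⟩
  mul_mem' := by
    rintro a b ⟨ha, ha'⟩ ⟨hb, hb'⟩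
    refine ⟨U.mul_mem ha hb, ?_⟩
    have e : a * b * w * (a * b)⁻¹ * w⁻¹ = a * (b * w * b⁻¹ * w⁻¹) * a⁻¹ * (a * w * a⁻¹ * w⁻¹) := by
      group
    rw [e]
    exact K.mul_mem (hK a ha _ hb') ha'
  inv_mem' := by
    rintro a ⟨ha, ha'⟩
    refine ⟨U.inv_mem ha, ?_⟩
    have e : a⁻¹ * w * a⁻¹⁻¹ * w⁻¹ = a⁻¹ * (a * w * a⁻¹ * w⁻¹)⁻¹ * a⁻¹⁻¹ := by group
    rw [e]
    exact hK a⁻¹ (U.inv_mem ha) _ (K.inv_mem ha')

/-- In a group, a product of commuting additive families adds. -/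
theorem prod_add {Q τ A : Type*} [Group Q] [Add A] (φ : τ → A → Q)
    (hadd : ∀ c a b, φ c (a + b) = φ c a * φ c b) (T : List τ)
    (hc : ∀ c ∈ T, ∀ c' ∈ T, ∀ x y, Commute (φ c x) (φ c' y)) (v v' : τ → A) :
    (T.map fun c => φ c (v c)).prod * (T.map fun c => φ c (v' c)).prod =
      (T.map fun c => φ c (v c + v' c)).prod := by
  induction T with
  | nil => simp
  | cons a T ih =>
    have hc' : ∀ c ∈ T, ∀ c' ∈ T, ∀ x y, Commute (φ c x) (φ c' y) :=
      fun c h c' h' x y => hc c (by simp [h]) c' (by simp [h']) x y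
    simp only [List.map_cons, List.prod_cons]
    have hcomm : Commute (T.map fun c => φ c (v c)).prod (φ a (v' a)) := by
      apply Commute.list_prod_left
      intro x hx
      obtain ⟨c, hcT, rfl⟩ := List.mem_map.mp hx
      exact hc c (by simp [hcT]) a (by simp) _ _
    rw [← ih hc', hadd, mul_assoc, mul_assoc, ← mul_assoc _ (φ a (v' a)), hcomm.eq]
    simp only [mul_assoc]

theorem prod_single {Q τ : Type*} [Group Q] [BEq τ] [LawfulBEq τ] (f : τ → Q) (T : List τ) (c₀ : τ)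
    (h : ∀ c ∈ T, c ≠ c₀ → f c = 1) : (T.map f).prod = f c₀ ^ T.count c₀ := by
  induction T with
  | nil => simp
  | cons a T ih =>
    have h' := ih fun c hc => h c (by simp [hc])
    simp only [List.map_cons, List.prod_cons, h']
    by_cases ha : a = c₀
    · subst ha
      rw [List.count_cons_self, pow_succ']
    · rw [h a (by simp) ha, one_mul, List.count_cons_of_ne ha]

variable (hR : Sys D F η) (hT : Tbl D) (hT2 : Tbl2 D)

/-- The filtration of the radical. -/
noncomputable def Z (J : Set ℕ) (m : ℕ) : Subgroup (GL D.Idx F) := gen hR.toAddRel (S D J m)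

open Classical in
/-- Root elements in `U`. -/
noncomputable def xU (s : ℕ) (v : F) : ↥(D.posUnipotent F) :=
  if h : D.IsPosRoot s then ⟨X hR.toAddRel s v, X_mem_U hR hT h v⟩ else 1

theorem coe_xU {s : ℕ} (h : D.IsPosRoot s) (v : F) :
    ((xU hR hT s v : ↥(D.posUnipotent F)) : GL D.Idx F) = X hR.toAddRel s v := by
  rw [xU, dif_pos h]

theorem xU_add (s : ℕ) (a b : F) : xU hR hT s (a + b) = xU hR hT s a * xU hR hT s b := by
  by_cases h : D.IsPosRoot s
  · apply Subtype.ext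
    rw [Subgroup.coe_mul, coe_xU hR hT h, coe_xU hR hT h, coe_xU hR hT h, X_mul]
  · simp [xU, h]

theorem xU_zero (s : ℕ) : xU hR hT s (0 : F) = 1 := by
  by_cases h : D.IsPosRoot s
  · apply Subtype.ext
    rw [coe_xU hR hT h, X_zero]
    rfl
  · simp [xU, h]

include hT in
theorem coe_list_xU (l : List (ℕ × F)) (h : ∀ p ∈ l, D.IsPosRoot p.1) :
    (((l.map fun p => xU hR hT p.1 p.2).prod : ↥(D.posUnipotent F)) : GL D.Idx F) =
      W hR.toAddRel l := by
  induction l with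
  | nil => simp
  | cons p l ih =>
    simp only [List.map_cons, List.prod_cons, W_cons, Subgroup.coe_mul]
    rw [coe_xU hR hT (h p (by simp)), ih fun q hq => h q (by simp [hq])]

include hR hT hT2

theorem Z_conj {J : Set ℕ} {m a : ℕ} (ha : D.IsPosRoot a) (t : F) {g : GL D.Idx F}
    (hg : g ∈ Z hR J m) : (X hR.toAddRel a t)⁻¹ * g * X hR.toAddRel a t ∈ Z hR J m := by
  by_cases hS : a ∈ S D J m
  · have hm : X hR.toAddRel a t ∈ Z hR J m := X_mem_gen _ hS t
    exact Subgroup.mul_mem _ (Subgroup.mul_mem _ (Subgroup.inv_mem _ hm) hg) hm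
  · refine conj_mem_gen (commPos hR) ha (fun s hs => ⟨hs.1.1, ?_⟩) ?_ t hg
    · rintro rfl
      exact hS hs
    · intro s hs c hc
      refine S_mono (Nat.le_succ m) (comm_S hT hT2 ha hs ?_ hc)
      rintro rfl
      exact hS hs

theorem U_le_norm_of {K : Subgroup (GL D.Idx F)}
    (h : ∀ a, D.IsPosRoot a → ∀ (t : F), ∀ g ∈ K, (X hR.toAddRel a t)⁻¹ * g * X hR.toAddRel a t ∈ K) :
    D.posUnipotent F ≤ Subgroup.normalizer (K : Set (GL D.Idx F)) := by
  rw [posUnipotent_eq hR.toAddRel]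
  refine gen_le _ ?_
  intro r hr t
  rw [Subgroup.mem_normalizer_iff]
  intro g
  constructor
  · intro hg
    have := h r hr (-t) g hg
    simpa using this
  · intro hg
    have := h r hr t _ hg
    have e : (X hR.toAddRel r t)⁻¹ * (X hR.toAddRel r t * g * (X hR.toAddRel r t)⁻¹) *
        X hR.toAddRel r t = g := by group
    rwa [e] at this

theorem U_le_norm_Z (J : Set ℕ) (m : ℕ) :
    D.posUnipotent F ≤ Subgroup.normalizer ((Z hR J m : Subgroup (GL D.Idx F)) : Set (GL D.Idx F)) :=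
  U_le_norm_of hR hT hT2 fun _ ha t _ hg => Z_conj hR hT hT2 ha t hg

/-- Commutators lower the filtration. -/
theorem comm_mem {X' : Subgroup (GL D.Idx F)} (hXU : X' ≤ D.posUnipotent F)
    (hXN : D.posUnipotent F ≤ Subgroup.normalizer (X' : Set (GL D.Idx F))) {J : Set ℕ} {m b : ℕ}
    {y : GL D.Idx F} (hy : y ∈ X' ⊔ Z hR J m) (hb : D.IsPosRoot b) (u : F) :
    y * X hR.toAddRel b u * y⁻¹ * (X hR.toAddRel b u)⁻¹ ∈ X' ⊔ Z hR J (m + 1) := by
  have hK : ∀ y ∈ D.posUnipotent F, ∀ g ∈ X' ⊔ Z hR J (m + 1), y * g * y⁻¹ ∈ X' ⊔ Z hR J (m + 1) := by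
    intro y hy g hg
    exact (Subgroup.mem_normalizer_iff.mp (norm_sup (hXN hy) (U_le_norm_Z hR hT hT2 J (m + 1) hy)) g).mp hg
  have hw : X hR.toAddRel b u ∈ D.posUnipotent F := X_mem_U hR hT hb u
  have hle : X' ⊔ Z hR J m ≤ commSub (D.posUnipotent F) _ (X hR.toAddRel b u) hK := by
    refine sup_le ?_ ?_
    · intro x hx
      refine ⟨hXU hx, ?_⟩
      have h1 := (Subgroup.mem_normalizer_iff.mp (hXN hw) _).mp (Subgroup.inv_mem _ hx)
      have e : x * X hR.toAddRel b u * x⁻¹ * (X hR.toAddRel b u)⁻¹ =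
          x * (X hR.toAddRel b u * x⁻¹ * (X hR.toAddRel b u)⁻¹) := by group
      show x * X hR.toAddRel b u * x⁻¹ * (X hR.toAddRel b u)⁻¹ ∈ _
      rw [e]
      exact Subgroup.mem_sup_left (Subgroup.mul_mem _ hx h1)
    · refine gen_le _ ?_
      intro r hr t
      refine ⟨X_mem_U hR hT hr.1.1 t, ?_⟩
      show X hR.toAddRel r t * X hR.toAddRel b u * (X hR.toAddRel r t)⁻¹ * (X hR.toAddRel b u)⁻¹ ∈ _
      by_cases hrb : b = r
      · subst hrb
        have e : X hR.toAddRel b t * X hR.toAddRel b u * (X hR.toAddRel b t)⁻¹ *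
            (X hR.toAddRel b u)⁻¹ = 1 := by
          rw [X_inv, X_inv, X_mul, X_mul, X_mul]
          have : t + u + -t + -u = 0 := by ring
          rw [this, X_zero]
        rw [e]
        exact Subgroup.one_mem _
      · have h1 := commPos hR r b hr.1.1 hb hrb (-t) u
        set V := W hR.toAddRel (D.commWord F r b (-t) u) with hV
        have hVm : V ∈ Z hR J (m + 1) := by
          apply W_mem_gen
          intro p hp
          obtain ⟨c, hc, hpc⟩ := mem_commWord hp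
          rw [hpc]
          exact comm_S' hT hT2 hr hb (Ne.symm hrb) hc
        have e : X hR.toAddRel r t * X hR.toAddRel b u * (X hR.toAddRel r t)⁻¹ *
            (X hR.toAddRel b u)⁻¹ = X hR.toAddRel b u * V * (X hR.toAddRel b u)⁻¹ := by
          have e1 : (X hR.toAddRel r t)⁻¹ = X hR.toAddRel r (-t) := X_inv _ _ _
          rw [e1, mul_assoc (X hR.toAddRel r t), h1, ← e1]
          group
        rw [e]
        apply Subgroup.mem_sup_right
        have := Z_conj hR hT hT2 hb (-u) hVm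
        simpa using this
  exact (hle hy).2

/-- The step of the filtration: the lower terms of a commutator are cancelled. -/
theorem vand_step {X' : Subgroup (GL D.Idx F)} {J : Set ℕ} {r a b k : ℕ} {κ : ℤ}
    (hr : r ∈ S D J r) (hκ : κ = 1 ∨ κ = -1) (ha : D.IsPosRoot a) (hb : D.IsPosRoot b) (hab : a ≠ b)
    (hT0 : ∀ c ∈ D.commTerms a b, c.1 ∈ psiJ D J)
    (hcount : (D.commTerms a b).count (r, κ, k, 1) = 1)
    (hclass : ∀ c ∈ D.commTerms a b, c = (r, κ, k, 1) ∨ r < c.1 ∨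
      (c.1 < r ∧ c.2.2.2 = 1 ∧ 1 ≤ c.2.2.1 ∧ c.2.2.1 < k))
    (hlow : ∀ c ∈ D.commTerms a b, ∀ c' ∈ D.commTerms a b, c.1 < r → c'.1 < r → c.1 ≠ c'.1 →
      ∀ d ∈ D.commTerms c.1 c'.1, r < d.1)
    (hW : ∀ t u : F, W hR.toAddRel (D.commWord F a b t u) ∈ X' ⊔ Z hR J (r + 1))
    (hV : ∀ s : F, ∃ t₁ t₂ t₃ u₁ u₂ u₃ : F,
      (∀ i, 1 ≤ i → i < k → (-t₁) ^ i * u₁ + (-t₂) ^ i * u₂ + (-t₃) ^ i * u₃ = 0) ∧
        (-t₁) ^ k * u₁ + (-t₂) ^ k * u₂ + (-t₃) ^ k * u₃ = s)
    (s : F) : X hR.toAddRel r s ∈ X' ⊔ Z hR J (r + 1) := by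
  classical
  have hZU := U_le_norm_Z hR hT hT2 J (r + 1)
  let N : Subgroup ↥(D.posUnipotent F) := (Z hR J (r + 1)).subgroupOf (D.posUnipotent F)
  haveI hN : N.Normal := ⟨fun n hn g => by
    rw [Subgroup.mem_subgroupOf] at hn ⊢
    exact (Subgroup.mem_normalizer_iff.mp (hZU g.2) _).mp hn⟩
  let π : ↥(D.posUnipotent F) →* ↥(D.posUnipotent F) ⧸ N := QuotientGroup.mk' N
  let φ : (ℕ × ℤ × ℕ × ℕ) → F → ↥(D.posUnipotent F) ⧸ N := fun c v => π (xU hR hT c.1 v)
  have hadd : ∀ c x y, φ c (x + y) = φ c x * φ c y := by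
    intro c x y
    simp only [φ, xU_add, map_mul]
  have hzero : ∀ c, φ c 0 = 1 := by
    intro c
    simp only [φ, xU_zero, map_one]
  have hone : ∀ q, q ∈ S D J (r + 1) → ∀ v, π (xU hR hT q v) = 1 := by
    intro q hq v
    rw [show (π (xU hR hT q v) = 1) ↔ xU hR hT q v ∈ N from QuotientGroup.eq_one_iff _]
    rw [Subgroup.mem_subgroupOf, coe_xU hR hT hq.1.1]
    exact X_mem_gen _ hq v
  have hbig : ∀ c ∈ D.commTerms a b, r < c.1 → ∀ v, φ c v = 1 := by
    intro c hc hrc v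
    obtain ⟨h1, h2⟩ := hT0 c hc
    exact hone c.1 ⟨⟨h1, h2⟩, hrc, (hT.comm_keys a b ha hb hab c hc).2.2.2⟩ v
  have hw : ∀ wl : List (ℕ × F), (∀ p ∈ wl, p.1 ∈ S D J (r + 1)) →
      π (wl.map fun p => xU hR hT p.1 p.2).prod = 1 := by
    intro wl h
    rw [map_list_prod]
    apply List.prod_eq_one
    intro x hx
    obtain ⟨y, hy, rfl⟩ := List.mem_map.mp hx
    obtain ⟨p, hp, rfl⟩ := List.mem_map.mp hy
    exact hone p.1 (h p hp) p.2
  have hcomm₀ : ∀ q q', q ∈ psiJ D J → q' ∈ psiJ D J → q ≠ q' →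
      (∀ d ∈ D.commTerms q q', r < d.1) → ∀ x y : F,
      Commute (π (xU hR hT q x)) (π (xU hR hT q' y)) := by
    intro q q' hq hq' hne hd x y
    have hS' : ∀ p ∈ D.commWord F q q' x y, p.1 ∈ S D J (r + 1) := by
      intro p hp
      obtain ⟨c, hc, hpc⟩ := mem_commWord hp
      rw [hpc]
      exact ⟨comm_psiJ hT hT2 hq.1 hq' hne hc, hd c hc,
        (hT.comm_keys q q' hq.1 hq'.1 hne c hc).2.2.2⟩
    have h1 := commPos hR q q' hq.1 hq'.1 (Ne.symm hne) x y
    have hpw : ∀ p ∈ D.commWord F q q' x y, D.IsPosRoot p.1 := fun p hp => (hS' p hp).1.1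
    have h2 : xU hR hT q' y * xU hR hT q x = xU hR hT q x * xU hR hT q' y *
        ((D.commWord F q q' x y).map fun p => xU hR hT p.1 p.2).prod := by
      apply Subtype.ext
      simp only [Subgroup.coe_mul]
      rw [coe_xU hR hT hq.1, coe_xU hR hT hq'.1, coe_list_xU hR hT _ hpw]
      exact h1
    have h3 := congrArg π h2
    rw [map_mul, map_mul, map_mul, hw _ hS', mul_one] at h3
    exact h3.symm
  have hcommT : ∀ c ∈ D.commTerms a b, ∀ c' ∈ D.commTerms a b, ∀ x y : F,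
      Commute (φ c x) (φ c' y) := by
    intro c hc c' hc' x y
    by_cases heq : c.1 = c'.1
    · show π (xU hR hT c.1 x) * π (xU hR hT c'.1 y) = π (xU hR hT c'.1 y) * π (xU hR hT c.1 x)
      rw [← heq, ← map_mul, ← map_mul, ← xU_add, ← xU_add, add_comm]
    · have hp1 := hT0 c hc
      have hp2 := hT0 c' hc'
      have hq1 : ∀ q, q ∈ psiJ D J → q ≠ r → ∀ d ∈ D.commTerms r q, r < d.1 := by
        intro q hq hne d hd
        exact (hT.comm_keys r q hr.1.1 hq.1 (Ne.symm hne) d hd).1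
      have hq2 : ∀ q, q ∈ psiJ D J → q ≠ r → ∀ d ∈ D.commTerms q r, r < d.1 := by
        intro q hq hne d hd
        exact (hT.comm_keys q r hq.1 hr.1.1 hne d hd).2.1
      rcases hclass c hc with h1 | h1 | h1
      · rcases hclass c' hc' with h2 | h2 | h2
        · rw [h1, h2] at heq
          exact absurd rfl heq
        · rw [show φ c' y = 1 from hbig c' hc' h2 y]
          exact Commute.one_right _
        · have hc1 : c.1 = r := by rw [h1]
          refine hcomm₀ c.1 c'.1 hp1 hp2 heq ?_ x y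
          rw [hc1]
          exact hq1 c'.1 hp2 (ne_of_lt h2.1)
      · rw [show φ c x = 1 from hbig c hc h1 x]
        exact Commute.one_left _
      · rcases hclass c' hc' with h2 | h2 | h2
        · have hc1 : c'.1 = r := by rw [h2]
          refine hcomm₀ c.1 c'.1 hp1 hp2 heq ?_ x y
          rw [hc1]
          exact hq2 c.1 hp1 (ne_of_lt h1.1)
        · rw [show φ c' y = 1 from hbig c' hc' h2 y]
          exact Commute.one_right _
        · exact hcomm₀ c.1 c'.1 hp1 hp2 heq (hlow c hc c' hc' h1.1 h2.1 heq) x y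
  let V : F → F → (ℕ × ℤ × ℕ × ℕ) → F := fun t u c => (c.2.1 : F) * (-t) ^ c.2.2.1 * u ^ c.2.2.2
  let e : F → F → ↥(D.posUnipotent F) := fun t u =>
    ((D.commWord F a b t u).map fun p => xU hR hT p.1 p.2).prod
  have he : ∀ t u, π (e t u) = ((D.commTerms a b).map fun c => φ c (V t u c)).prod := by
    intro t u
    simp only [e, map_list_prod, ChevalleyDatum.commWord, List.map_map]
    rfl
  have hposw : ∀ t u : F, ∀ p ∈ D.commWord F a b t u, D.IsPosRoot p.1 := by
    intro t u p hp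
    obtain ⟨c, hc, hpc⟩ := mem_commWord hp
    rw [hpc]
    exact (hT0 c hc).1
  have hcoe : ∀ t u, ((e t u : ↥(D.posUnipotent F)) : GL D.Idx F) =
      W hR.toAddRel (D.commWord F a b t u) := fun t u => coe_list_xU hR hT _ (hposw t u)
  obtain ⟨t₁, t₂, t₃, u₁, u₂, u₃, hV0, hV1⟩ := hV ((κ : F) * s)
  have hκ2 : (κ : F) * (κ : F) = 1 := by
    rcases hκ with rfl | rfl <;> simp
  have key : π (e t₁ u₁ * e t₂ u₂ * e t₃ u₃) = π (xU hR hT r s) := by
    rw [map_mul, map_mul, he, he, he, prod_add φ hadd _ hcommT, prod_add φ hadd _ hcommT]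
    rw [prod_single (fun c => φ c (V t₁ u₁ c + V t₂ u₂ c + V t₃ u₃ c)) _ (r, κ, k, 1) ?_, hcount,
      pow_one]
    · show π (xU hR hT r _) = _
      congr 2
      simp only [V, pow_one]
      linear_combination (κ : F) * hV1 + s * hκ2
    · intro c hc hne
      rcases hclass c hc with h1 | h1 | h1
      · exact absurd h1 hne
      · exact hbig c hc h1 _
      · have h0 : V t₁ u₁ c + V t₂ u₂ c + V t₃ u₃ c = 0 := by
          simp only [V, h1.2.1, pow_one]
          linear_combination (c.2.1 : F) * hV0 c.2.2.1 h1.2.2.1 h1.2.2.2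
        show φ c _ = 1
        rw [h0, hzero]
  have h1 : (e t₁ u₁ * e t₂ u₂ * e t₃ u₃)⁻¹ * xU hR hT r s ∈ N := by
    have := key
    simp only [π, QuotientGroup.mk'_apply] at this
    exact QuotientGroup.eq.mp this
  rw [Subgroup.mem_subgroupOf] at h1
  have h2 : ((e t₁ u₁ * e t₂ u₂ * e t₃ u₃ : ↥(D.posUnipotent F)) : GL D.Idx F) ∈
      X' ⊔ Z hR J (r + 1) := by
    simp only [Subgroup.coe_mul, hcoe]
    exact Subgroup.mul_mem _ (Subgroup.mul_mem _ (hW _ _) (hW _ _)) (hW _ _)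
  have h3 := Subgroup.mul_mem _ h2 (Subgroup.mem_sup_right (S := X') h1)
  rw [← Subgroup.coe_mul, mul_inv_cancel_left, coe_xU hR hT hr.1.1] at h3
  exact h3

omit hT2 in
/-- An ordered product with vanishing simple coordinates lies in the first step of the filtration. -/
theorem W_mem_Z0 {J : Set ℕ} : ∀ L : List ℕ, L.Pairwise (· < ·) → (∀ r ∈ L, r ∈ psiJ D J) →
    ∀ t : ℕ → F, (∀ m < D.rank, co hR m (W hR.toAddRel (L.map fun r => (r, t r))) = 0) →
      W hR.toAddRel (L.map fun r => (r, t r)) ∈ Z hR J 0 := by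
  intro L
  induction L with
  | nil => intro _ _ _ _; simpa using Subgroup.one_mem _
  | cons a L ih =>
    intro hs hp t hco
    rw [List.pairwise_cons] at hs
    have hal : ∀ r ∈ L, a < r := hs.1
    have hpL : ∀ r ∈ L, r ∈ psiJ D J := fun r hr => hp r (by simp [hr])
    have hpa : a ∈ psiJ D J := hp a (by simp)
    simp only [List.map_cons, W_cons] at hco ⊢
    set W' := W hR.toAddRel (L.map fun r => (r, t r)) with hW'
    have hW'U : W' ∈ D.posUnipotent F := by
      rw [posUnipotent_eq hR.toAddRel]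
      apply W_mem_gen
      intro p hp'
      obtain ⟨r, hr, rfl⟩ := List.mem_map.mp hp'
      exact (hpL r hr).1
    have hXa := X_mem_U hR hT hpa.1 (t a)
    by_cases hsim : ∃ i < D.rank, a = D.simple i
    · obtain ⟨i, hi, hai⟩ := hsim
      have hY : W' ∈ Yp hR (D.simple i) := by
        apply W_mem_gen
        intro p hp'
        obtain ⟨r, hr, rfl⟩ := List.mem_map.mp hp'
        refine ⟨(hpL r hr).1, ?_⟩
        have := hal r hr
        show r ≠ D.simple i
        omega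
      have h1 := hco i hi
      rw [co_mul hR hT hi hXa hW'U, co_of_mem_Y hR hT hi hY, add_zero, hai, co_X_self hR hT hi] at h1
      rw [hai, h1, X_zero, one_mul] at hco ⊢
      exact ih hs.2 hpL t hco
    · push Not at hsim
      have hm : X hR.toAddRel a (t a) ∈ Z hR J 0 :=
        X_mem_gen _ (show a ∈ S D J 0 from ⟨hpa, Nat.zero_le _, hsim⟩) _
      refine Subgroup.mul_mem _ hm (ih hs.2 hpL t fun m hm' => ?_)
      have h1 := hco m hm'
      rwa [co_mul hR hT hm' hXa hW'U, co_X_other hR hT hm' hpa.1 (hsim m hm'), zero_add] at h1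

/-- An element of the radical with vanishing simple coordinates lies in the first step. -/
theorem mem_Z0 {J : Set ℕ} {y : GL D.Idx F} (hy : y ∈ D.unipotentRadical F J)
    (hco : ∀ m < D.rank, co hR m y = 0) : y ∈ Z hR J 0 := by
  classical
  rw [radical_eq hR hT] at hy
  let L : List ℕ := D.posRoots.filter (fun r => r ∈ psiJ D J)
  have hL : ∀ r, r ∈ L ↔ r ∈ psiJ D J := by
    intro r
    simp only [L, List.mem_filter, decide_eq_true_eq, mem_posRoots]
    exact ⟨fun h => h.2, fun h => ⟨h.1, h⟩⟩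
  have hsorted : L.Pairwise (· < ·) := List.Pairwise.filter _ posRoots_sorted
  have hgen : gen hR.toAddRel (psiJ D J) = gen hR.toAddRel {r | r ∈ L} := by
    congr 1
    ext r
    exact (hL r).symm
  rw [hgen] at hy
  obtain ⟨t, rfl⟩ := exists_ordered hT (commPos hR) L hsorted (fun r hr => ((hL r).1 hr).1) (by
    intro r hr s hs hrs c hc
    rw [hL] at hr hs ⊢
    exact comm_psiJ hT hT2 hr.1 hs (ne_of_lt hrs) hc) _ hy
  exact W_mem_Z0 hR hT L hsorted (fun r hr => (hL r).1 hr) t hco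

/-- A witness for a non-simple positive root `r`: a commutator with coefficient `±1` at `r`. -/
def WitAt (D : ChevalleyDatum) (kmax r a b : ℕ) (κ : ℤ) (k : ℕ) : Prop :=
  D.IsPosRoot a ∧ D.IsPosRoot b ∧ a ≠ b ∧ (κ = 1 ∨ κ = -1) ∧ 1 ≤ k ∧ k ≤ kmax ∧
    (∀ i < D.rank, cr D r i ≠ 0 → cr D a i ≠ 0 ∨ cr D b i ≠ 0) ∧
    (D.commTerms a b).count (r, κ, k, 1) = 1 ∧
    (∀ c ∈ D.commTerms a b, c = (r, κ, k, 1) ∨ r < c.1 ∨
      (c.1 < r ∧ c.2.2.2 = 1 ∧ 1 ≤ c.2.2.1 ∧ c.2.2.1 < k)) ∧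
    (∀ c ∈ D.commTerms a b, ∀ c' ∈ D.commTerms a b, c.1 < r → c'.1 < r → c.1 ≠ c'.1 →
      ∀ d ∈ D.commTerms c.1 c'.1, r < d.1)

/-- The radical lies in `X` modulo each step of the filtration. -/
theorem radical_le_sup {X' : Subgroup (GL D.Idx F)} (hXU : X' ≤ D.posUnipotent F)
    (hXN : D.posUnipotent F ≤ Subgroup.normalizer (X' : Set (GL D.Idx F))) {J : Set ℕ} {kmax : ℕ}
    (hbase : ∀ k < D.rank, k ∉ J → ∀ c : F, X hR.toAddRel (D.simple k) c ∈ X' ⊔ Z hR J 0)
    (hwit : ∀ r, D.IsPosRoot r → (∀ i < D.rank, r ≠ D.simple i) →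
      ∃ a b κ k, WitAt D kmax r a b κ k)
    (hV : ∀ k, 1 ≤ k → k ≤ kmax → ∀ s : F, ∃ t₁ t₂ t₃ u₁ u₂ u₃ : F,
      (∀ i, 1 ≤ i → i < k → (-t₁) ^ i * u₁ + (-t₂) ^ i * u₂ + (-t₃) ^ i * u₃ = 0) ∧
        (-t₁) ^ k * u₁ + (-t₂) ^ k * u₂ + (-t₃) ^ k * u₃ = s) (m : ℕ) :
    D.unipotentRadical F J ≤ X' ⊔ Z hR J m := by
  induction m with
  | zero =>
    rw [radical_eq hR hT]
    refine gen_le _ ?_
    intro r hr t
    by_cases hsim : ∃ i < D.rank, r = D.simple i
    · obtain ⟨i, hi, rfl⟩ := hsim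
      refine hbase i hi ?_ t
      intro hiJ
      exact hr.2 (inRootSub_simple hT hiJ hi)
    · push Not at hsim
      exact Subgroup.mem_sup_right (X_mem_gen _ (show r ∈ S D J 0 from ⟨hr, Nat.zero_le _, hsim⟩) t)
  | succ m ih =>
    by_cases hm : m ∈ S D J m
    · have hmX : ∀ s : F, X hR.toAddRel m s ∈ X' ⊔ Z hR J (m + 1) := by
        obtain ⟨a, b, κ, k, ha, hb, hab, hκ, hk1, hk2, hsup, hcount, hclass, hlow⟩ :=
          hwit m hm.1.1 hm.2.2
        have hab' : a ∈ psiJ D J ∨ b ∈ psiJ D J := by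
          obtain ⟨i, hi, hiJ, hne⟩ := exists_of_not_inRootSub hm.1.1.1 hm.1.2
          rcases hsup i hi hne with h | h
          · exact Or.inl ⟨ha, fun h' => h (h'.2 i hi hiJ)⟩
          · exact Or.inr ⟨hb, fun h' => h (h'.2 i hi hiJ)⟩
        have hT0 : ∀ c ∈ D.commTerms a b, c.1 ∈ psiJ D J := by
          intro c hc
          rcases hab' with h | h
          · exact comm_psiJ' hT hT2 h hb hab hc
          · exact comm_psiJ hT hT2 ha h hab hc
        have hW : ∀ t u : F, W hR.toAddRel (D.commWord F a b t u) ∈ X' ⊔ Z hR J (m + 1) := by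
          intro t u
          have h1 := commPos hR a b ha hb (Ne.symm hab) t u
          set W' := W hR.toAddRel (D.commWord F a b t u) with hW'
          have e : W' = (X hR.toAddRel b u)⁻¹ * (X hR.toAddRel a t)⁻¹ * X hR.toAddRel b u *
              X hR.toAddRel a t := by
            have e0 : W' = (X hR.toAddRel a t * X hR.toAddRel b u)⁻¹ *
                (X hR.toAddRel a t * X hR.toAddRel b u * W') := by group
            rw [e0, ← h1]
            group
          rcases hab' with h | h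
          · have hy : (X hR.toAddRel a t)⁻¹ ∈ X' ⊔ Z hR J m := by
              apply ih
              rw [radical_eq hR hT]
              exact Subgroup.inv_mem _ (X_mem_gen _ h t)
            have h2 := comm_mem hR hT hT2 hXU hXN hy hb (-u)
            have e2 : (X hR.toAddRel a t)⁻¹ * X hR.toAddRel b (-u) * (X hR.toAddRel a t)⁻¹⁻¹ *
                (X hR.toAddRel b (-u))⁻¹ = W'⁻¹ := by
              have e3 : X hR.toAddRel b (-u) = (X hR.toAddRel b u)⁻¹ := by rw [X_inv]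
              rw [e3, e]
              group
            rw [e2] at h2
            simpa using Subgroup.inv_mem _ h2
          · have hy : (X hR.toAddRel b u)⁻¹ ∈ X' ⊔ Z hR J m := by
              apply ih
              rw [radical_eq hR hT]
              exact Subgroup.inv_mem _ (X_mem_gen _ h u)
            have h2 := comm_mem hR hT hT2 hXU hXN hy ha (-t)
            have e2 : (X hR.toAddRel b u)⁻¹ * X hR.toAddRel a (-t) * (X hR.toAddRel b u)⁻¹⁻¹ *
                (X hR.toAddRel a (-t))⁻¹ = W' := by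
              have e3 : X hR.toAddRel a (-t) = (X hR.toAddRel a t)⁻¹ := by rw [X_inv]
              rw [e3, e]
              group
            rwa [e2] at h2
        exact vand_step hR hT hT2 hm hκ ha hb hab hT0 hcount hclass hlow hW (hV k hk1 hk2)
      have hle : Z hR J m ≤ X' ⊔ Z hR J (m + 1) := by
        refine gen_le _ ?_
        intro r hr t
        by_cases hrm : r = m
        · rw [hrm]
          exact hmX t
        · apply Subgroup.mem_sup_right
          have h1 := hr.2.1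
          exact X_mem_gen _ (show r ∈ S D J (m + 1) from ⟨hr.1, by omega, hr.2.2⟩) t
      exact ih.trans (sup_le le_sup_left hle)
    · have hle : Z hR J m ≤ Z hR J (m + 1) := by
        apply gen_mono
        intro r hr
        have hrm : r ≠ m := by
          rintro rfl
          exact hm hr
        have h1 := hr.2.1
        exact ⟨hr.1, by omega, hr.2.2⟩
      exact ih.trans (sup_le_sup_left hle _)

/-- The main theorem, from hypotheses on the tables and the field. -/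
theorem main
    (hS : ∀ r, D.IsPosRoot r → ∀ q < D.rank, D.IsPosRoot (D.reflectRoot q r) →
      D.reflectRoot q r < r → 0 ≤ Ad D (cr D r) (D.simple q))
    {kmax : ℕ}
    (hwit : ∀ r, D.IsPosRoot r → (∀ i < D.rank, r ≠ D.simple i) →
      ∃ a b κ k, WitAt D kmax r a b κ k)
    (hV : ∀ k, 1 ≤ k → k ≤ kmax → ∀ s : F, ∃ t₁ t₂ t₃ u₁ u₂ u₃ : F,
      (∀ i, 1 ≤ i → i < k → (-t₁) ^ i * u₁ + (-t₂) ^ i * u₂ + (-t₃) ^ i * u₃ = 0) ∧
        (-t₁) ^ k * u₁ + (-t₂) ^ k * u₂ + (-t₃) ^ k * u₃ = s)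
    (hmin : ∀ k < D.rank, ∀ l < D.rank, k ≠ l → ∃ (v : ℕ → ℤ) (γ : F), γ ≠ 0 ∧
      Ad D v (D.simple l) = 0 ∧ γ ^ (Ad D v (D.simple k)) ≠ 1)
    (hsq : ∀ t : F, ∃ a b : F, t = a ^ 2 - b ^ 2)
    (hdiag : ∀ k < D.rank, Ad D (fun j => if j = k then 1 else 0) (D.simple k) = 2)
    {X' : Subgroup (GL D.Idx F)} (hXU : X' ≤ D.posUnipotent F)
    (hwc : ∀ g ∈ D.group F, X'.map (MulAut.conj g).toMonoidHom ≤ D.posUnipotent F →
      X'.map (MulAut.conj g).toMonoidHom = X') :
    ∃ J : Set ℕ, (∀ j ∈ J, j < D.rank) ∧ X' = D.unipotentRadical F J := by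
  have hconj : ∀ g ∈ D.group F, (∀ x ∈ X', g * x * g⁻¹ ∈ D.posUnipotent F) →
      ∀ x ∈ X', g * x * g⁻¹ ∈ X' := by
    intro g hg h x hx
    have h1 := hwc g hg (by
      rintro _ ⟨y, hy, rfl⟩
      exact h y hy)
    rw [← h1]
    exact ⟨x, hx, rfl⟩
  have hXN : D.posUnipotent F ≤ Subgroup.normalizer (X' : Set (GL D.Idx F)) := by
    intro w hw
    have hf : ∀ w ∈ D.posUnipotent F, ∀ x ∈ X', w * x * w⁻¹ ∈ X' := fun w hw x hx =>
      hconj w (U_le_G hR hT hw) (fun y hy => Subgroup.mul_mem _ (Subgroup.mul_mem _ hw (hXU hy))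
        (Subgroup.inv_mem _ hw)) x hx
    rw [Subgroup.mem_normalizer_iff]
    intro g
    refine ⟨hf w hw g, fun h => ?_⟩
    have := hf w⁻¹ (Subgroup.inv_mem _ hw) _ h
    simpa [mul_assoc] using this
  have hXH : ∀ c : ℕ → F, (∀ j < D.rank, c j ≠ 0) → ∀ x ∈ X', hP hR c * x * (hP hR c)⁻¹ ∈ X' := by
    intro c hc x hx
    have hH : hP hR c ∈ D.diagonalSubgroup F := by
      rw [diagonal_eq hR hT]
      exact ⟨c, hc, rfl⟩
    exact hconj _ (H_le_G hR hT hH) (fun y hy => H_norm_U hR hT hH (hXU hy)) x hx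
  let J : Set ℕ := {j | j < D.rank ∧ ∀ x ∈ X', A hR j * x * (A hR j)⁻¹ ∈ X'}
  refine ⟨J, fun j hj => hj.1, le_antisymm ?_ ?_⟩
  · exact Cfsg.Agent.Lib.ChevWC.Word.le_radical hR hT hT2 hS hXU (fun j hj _ => hj.2)
  · have hXR : X' ≤ D.unipotentRadical F J :=
      Cfsg.Agent.Lib.ChevWC.Word.le_radical hR hT hT2 hS hXU (fun j hj _ => hj.2)
    have hbase : ∀ k < D.rank, k ∉ J → ∀ c : F,
        X hR.toAddRel (D.simple k) c ∈ X' ⊔ Z hR J 0 := by
      intro k hk hkJ c
      obtain ⟨x₀, hx₀, hc₀⟩ : ∃ x ∈ X', co hR k x ≠ 0 := by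
        by_contra hcon
        push Not at hcon
        apply hkJ
        refine ⟨hk, hconj _ ((B_N_G hR hT).2.1 (A_mem_N hR hT hk)) ?_⟩
        intro y hy
        exact Yp_le_U hR hT _ (A_norm_Yp hR hT hk (mem_Y_of_co hR hT hk (hXU hy) (hcon y hy)))
      obtain ⟨x₁, hx₁, hc₁, hl₁⟩ := reduce hR hT hXU hXH hmin x₀ hx₀ k hk hc₀
      obtain ⟨x, hx, hc, hl⟩ := single hR hT hXU hXH hsq hdiag hk hx₁ hc₁ hl₁ c
      have hpk : D.simple k ∈ psiJ D J :=
        ⟨hT.simple_pos k hk, not_inRootSub_simple hT hkJ hk⟩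
      have hXk : X hR.toAddRel (D.simple k) c ∈ D.unipotentRadical F J := by
        rw [radical_eq hR hT]
        exact X_mem_gen _ hpk c
      have hy : x⁻¹ * X hR.toAddRel (D.simple k) c ∈ Z hR J 0 := by
        refine mem_Z0 hR hT hT2 (Subgroup.mul_mem _ (Subgroup.inv_mem _ (hXR hx)) hXk) ?_
        intro m hm
        have hxU := hXU hx
        rw [co_mul hR hT hm (Subgroup.inv_mem _ hxU) (X_mem_U hR hT hpk.1 c), co_inv hR hT hm hxU]
        by_cases hmk : m = k
        · subst hmk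
          rw [hc, co_X_self hR hT hm]
          ring
        · rw [hl m hm hmk, co_X_other hR hT hm hpk.1 (fun h => hmk (hT.simple_inj k hk m hm h).symm)]
          ring
      have e : X hR.toAddRel (D.simple k) c = x * (x⁻¹ * X hR.toAddRel (D.simple k) c) := by group
      rw [e]
      exact Subgroup.mul_mem_sup hx hy
    have h1 := radical_le_sup hR hT hT2 hXU hXN hbase hwit hV D.nroots
    have hbot : Z hR J D.nroots = ⊥ := by
      rw [eq_bot_iff]
      refine gen_le _ ?_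
      intro r hr
      exact absurd hr.2.1 (not_le.mpr hr.1.1.1)
    rwa [hbot, sup_bot_eq] at h1

end Cfsg.Agent.Lib.ChevWC.Filt
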