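import Cfsg.Agent.Lib.ChevBN.Opp

/-!
A longest element of a standard parabolic Weyl group; a subgroup of `U` normalised by the `n_{p_j}`,
`j ∈ J`, lies in the unipotent radical `U_J`.
-/

set_option autoImplicit false
set_option linter.unusedSectionVars false

namespace Cfsg.Agent.Lib.ChevWC.Word

open Cfsg.Lie Cfsg.Agent.Lib.ChevBN.Elem Cfsg.Agent.Lib.ChevBN.Table
open Cfsg.Agent.Lib.ChevBN.Rel Cfsg.Agent.Lib.ChevBN.Core Cfsg.Agent.Lib.ChevBN.Pair
open Cfsg.Agent.Lib.ChevBN.Stmts Cfsg.Agent.Lib.ChevBN.Levi Cfsg.Agent.Lib.ChevBN.Opp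

variable {D : ChevalleyDatum} {F : Type*} [Field F] {η : ℕ → ℕ → ℤ}

/-- `Ad` depends only on the first coordinates. -/
theorem Ad_congr_add (D : ChevalleyDatum) (u v w : ℕ → ℤ) (n : ℤ) (s : ℕ)
    (h : ∀ j < D.rank, u j = v j + n * w j) : Ad D u s = Ad D v s + n * Ad D w s := by
  rw [Ad_eq_sum, Ad_eq_sum, Ad_eq_sum, Finset.mul_sum, ← Finset.sum_add_distrib]
  apply Finset.sum_congr rfl
  intro j hj
  rw [h j (Finset.mem_range.mp hj)]
  ring

/-- The coroot coordinates of reflected roots are linear. -/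
theorem cr_foldr_add (hT : Tbl D) {l : List ℕ} (hl : ∀ i ∈ l, i < D.rank) {a b c : ℕ}
    (ha : a < D.nroots) (hb : b < D.nroots) (hc : c < D.nroots) (n : ℤ)
    (h : ∀ j < D.rank, cr D c j = cr D a j + n * cr D b j) :
    ∀ j < D.rank, cr D (l.foldr D.reflectRoot c) j =
      cr D (l.foldr D.reflectRoot a) j + n * cr D (l.foldr D.reflectRoot b) j := by
  induction l with
  | nil => simpa using h
  | cons i l ih =>
    intro j hj
    have hi : i < D.rank := hl i (by simp)
    have hl' : ∀ i ∈ l, i < D.rank := fun q hq => hl q (by simp [hq])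
    have ih' := ih hl'
    simp only [List.foldr_cons]
    rw [hT.coroot_w i hi _ (foldr_lt hT hl' hc) j hj, hT.coroot_w i hi _ (foldr_lt hT hl' ha) j hj,
      hT.coroot_w i hi _ (foldr_lt hT hl' hb) j hj, ih' j hj]
    have hAd := Ad_congr_add D (cr D (l.foldr D.reflectRoot c)) (cr D (l.foldr D.reflectRoot a))
      (cr D (l.foldr D.reflectRoot b)) n (D.simple i) ih'
    split_ifs
    · rw [hAd]
      ring
    · ring

theorem cr_nonpos {r : ℕ} (hT : Tbl D) (hr : D.IsNegRoot r) (i : ℕ) (hi : i < D.rank) : cr D r i ≤ 0 := by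
  have h1 := cr_nonneg (hT.pos_of_neg hr) i
  have h2 : cr D (D.neg r) i = - cr D r i := hT.coroot_neg r hr.1 i hi
  omega

/-- A root with non-positive coroot coordinates is negative. -/
theorem neg_of_nonpos (hT : Tbl D) {r : ℕ} (hr : r < D.nroots) (h : ∀ i < D.rank, cr D r i ≤ 0) :
    D.IsNegRoot r := by
  rcases hT.pos_or_neg hr with h1 | h1
  · exfalso
    obtain ⟨i, hi⟩ := Tbl.exists_coroot_ne (F := ℚ) hT hr
    apply hi
    have h2 := h i i.isLt
    have h3 := cr_nonneg h1 i.val
    have h4 : cr D r i.val = 0 := le_antisymm h2 h3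
    have h5 : (D.coroot.getD r #[]).getD i.val 0 = 0 := h4
    rw [h5]
    simp
  · exact h1

/-- If the simple roots of `J` are made negative, so are all positive roots of `Φ_J`. -/
theorem neg_of_simple_neg (hT : Tbl D)
    (hS : ∀ r, D.IsPosRoot r → ∀ q < D.rank, D.IsPosRoot (D.reflectRoot q r) →
      D.reflectRoot q r < r → 0 ≤ Ad D (cr D r) (D.simple q))
    {l : List ℕ} (hl : ∀ i ∈ l, i < D.rank) {J : Set ℕ}
    (hJ : ∀ j ∈ J, j < D.rank → D.IsNegRoot (l.foldr D.reflectRoot (D.simple j))) :
    ∀ r, D.IsPosRoot r → D.InRootSub J r → D.IsNegRoot (l.foldr D.reflectRoot r) := by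
  intro r
  induction r using Nat.strong_induction_on with
  | _ r ih =>
    intro hr hrJ
    rcases hT.descent r hr with ⟨i, hi, rfl⟩ | ⟨q, hq, hq1, hq2, hq3, hq4⟩
    · apply hJ i _ hi
      by_contra hiJ
      exact not_inRootSub_simple hT hiJ hi hrJ
    · have hqJ : q ∈ J := by
        by_contra hqJ
        exact hq1 (hrJ.2 q hq hqJ)
      have hr'J : D.InRootSub J (D.reflectRoot q r) := by
        refine ⟨hq2.1, fun i hi hiJ => ?_⟩
        by_contra hne
        exact (hq4 i hi hne) (hrJ.2 i hi hiJ)
      have h1 := ih _ hq3 hq2 hr'J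
      have h2 := hJ q hqJ hq
      have hn := hS r hr q hq hq2 hq3
      have hlin := cr_foldr_add hT hl hq2.1 (hT.simple_lt hq) hr.1 (Ad D (cr D r) (D.simple q)) (by
        intro j hj
        rw [hT.coroot_w q hq r hr.1 j hj, hT.coroot_simple q hq j hj]
        by_cases hjq : j = q
        · subst hjq
          simp
        · rw [if_neg hjq, if_neg (Ne.symm hjq)]
          ring)
      apply neg_of_nonpos hT (foldr_lt hT hl hr.1)
      intro i hi
      rw [hlin i hi]
      have h3 := cr_nonpos hT h1 i hi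
      have h4 := cr_nonpos hT h2 i hi
      have h5 := mul_nonpos_of_nonneg_of_nonpos hn h4
      linarith

open Classical in
/-- The positive roots of `Φ_J` kept positive by a word. -/
noncomputable def remSet (D : ChevalleyDatum) (J : Set ℕ) (l : List ℕ) : Finset ℕ :=
  (Finset.range D.nroots).filter fun r =>
    D.IsPosRoot r ∧ D.InRootSub J r ∧ D.IsPosRoot (l.foldr D.reflectRoot r)

/-- A longest element of the Weyl group of `J`. -/
theorem exists_word (hT : Tbl D)
    (hS : ∀ r, D.IsPosRoot r → ∀ q < D.rank, D.IsPosRoot (D.reflectRoot q r) →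
      D.reflectRoot q r < r → 0 ≤ Ad D (cr D r) (D.simple q)) (J : Set ℕ) :
    ∃ l : List ℕ, (∀ i ∈ l, i ∈ J ∧ i < D.rank) ∧
      ∀ r, D.IsPosRoot r → D.InRootSub J r → D.IsNegRoot (l.foldr D.reflectRoot r) := by
  classical
  have key : ∀ n : ℕ, ∀ l : List ℕ, (∀ i ∈ l, i ∈ J ∧ i < D.rank) → (remSet D J l).card = n →
      ∃ l' : List ℕ, (∀ i ∈ l', i ∈ J ∧ i < D.rank) ∧
        ∀ r, D.IsPosRoot r → D.InRootSub J r → D.IsNegRoot (l'.foldr D.reflectRoot r) := by
    intro n
    induction n using Nat.strong_induction_on with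
    | _ n ih =>
      intro l hl hn
      have hl0 : ∀ i ∈ l, i < D.rank := fun i hi => (hl i hi).2
      by_cases hex : ∃ j ∈ J, j < D.rank ∧ D.IsPosRoot (l.foldr D.reflectRoot (D.simple j))
      · obtain ⟨j, hjJ, hj, hpos⟩ := hex
        have hl' : ∀ i ∈ l ++ [j], i ∈ J ∧ i < D.rank := by
          intro i hi
          rcases List.mem_append.mp hi with h | h
          · exact hl i h
          · rw [List.mem_singleton] at h
            subst h
            exact ⟨hjJ, hj⟩
        have hfold : ∀ r, (l ++ [j]).foldr D.reflectRoot r =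
            l.foldr D.reflectRoot (D.reflectRoot j r) := by
          intro r
          simp [List.foldr_append]
        have hlt : (remSet D J (l ++ [j])).card < (remSet D J l).card := by
          have hmem : D.simple j ∈ remSet D J l := by
            simp only [remSet, Finset.mem_filter, Finset.mem_range]
            exact ⟨hT.simple_lt hj, hT.simple_pos j hj, inRootSub_simple hT hjJ hj, hpos⟩
          have hsub : (remSet D J (l ++ [j])).card ≤ ((remSet D J l).erase (D.simple j)).card := by
            apply Finset.card_le_card_of_injOn (D.reflectRoot j)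
            · intro r hr
              have hr' := Finset.mem_coe.mp hr
              simp only [remSet, Finset.mem_filter, Finset.mem_range] at hr'
              obtain ⟨h1, h2, h3, h4⟩ := hr'
              rw [hfold] at h4
              have hne : r ≠ D.simple j := by
                rintro rfl
                rw [hT.w_simple j hj, foldr_neg hT hl0 (hT.simple_lt hj)] at h4
                have := hT.neg_of_pos hpos
                exact hT.not_pos_of_neg this h4
              have hwp := hT.w_pos j hj r h2 hne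
              rw [Finset.mem_coe, Finset.mem_erase]
              refine ⟨?_, ?_⟩
              · intro h5
                have h6 := hT.w_w j hj r h1
                rw [h5, hT.w_simple j hj] at h6
                rw [← h6] at h2
                exact hT.not_pos_of_neg (hT.neg_of_pos (hT.simple_pos j hj)) h2
              · simp only [remSet, Finset.mem_filter, Finset.mem_range]
                refine ⟨hwp.1, hwp, ?_, h4⟩
                refine ⟨hwp.1, fun i hi hiJ => ?_⟩
                have h7 : cr D (D.reflectRoot j r) i = 0 := by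
                  rw [hT.coroot_w j hj r h1 i hi, if_neg (by rintro rfl; exact hiJ hjJ), sub_zero]
                  exact h3.2 i hi hiJ
                exact h7
            · intro r hr s hs h
              have hr' := Finset.mem_coe.mp hr
              have hs' := Finset.mem_coe.mp hs
              simp only [remSet, Finset.mem_filter, Finset.mem_range] at hr' hs'
              exact hT.w_inj hj hr'.1 hs'.1 h
          rw [Finset.card_erase_of_mem hmem] at hsub
          have hpos' : 0 < (remSet D J l).card := Finset.card_pos.mpr ⟨_, hmem⟩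
          omega
        exact ih _ (hn ▸ hlt) (l ++ [j]) hl' rfl
      · refine ⟨l, hl, ?_⟩
        apply neg_of_simple_neg hT hS hl0
        intro j hj hjl
        rcases hT.pos_or_neg (foldr_lt hT hl0 (hT.simple_lt hjl)) with h | h
        · exact absurd ⟨j, hj, hjl, h⟩ hex
        · exact h
  exact key _ [] (by simp) rfl

variable (hR : Sys D F η) (hT : Tbl D) (hT2 : Tbl2 D)

omit [Field F] in
/-- A word in normalising elements normalises. -/
theorem prodA_norm [Field F] (hR : Sys D F η) {K : Subgroup (GL D.Idx F)} {l : List ℕ}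
    (h : ∀ i ∈ l, ∀ x ∈ K, A hR i * x * (A hR i)⁻¹ ∈ K) :
    ∀ x ∈ K, prodA hR l * x * (prodA hR l)⁻¹ ∈ K := by
  induction l with
  | nil => intro x hx; simpa [prodA] using hx
  | cons a l ih =>
    intro x hx
    have e : prodA hR (a :: l) = A hR a * prodA hR l := by simp [prodA]
    have h1 := ih (fun i hi => h i (by simp [hi])) x hx
    have h2 := h a (by simp) _ h1
    have e2 : A hR a * prodA hR l * x * (A hR a * prodA hR l)⁻¹ =
        A hR a * (prodA hR l * x * (prodA hR l)⁻¹) * (A hR a)⁻¹ := by group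
    rw [e, e2]
    exact h2

include hR hT hT2

/-- A subgroup of `U` normalised by the `n_{p_j}`, `j ∈ J`, lies in the radical `U_J`. -/
theorem le_radical
    (hS : ∀ r, D.IsPosRoot r → ∀ q < D.rank, D.IsPosRoot (D.reflectRoot q r) →
      D.reflectRoot q r < r → 0 ≤ Ad D (cr D r) (D.simple q))
    {X : Subgroup (GL D.Idx F)} (hXU : X ≤ D.posUnipotent F) {J : Set ℕ}
    (hA : ∀ j ∈ J, j < D.rank → ∀ x ∈ X, A hR j * x * (A hR j)⁻¹ ∈ X) :
    X ≤ D.unipotentRadical F J := by
  obtain ⟨l, hl, hneg⟩ := exists_word hT hS J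
  have hl0 : ∀ i ∈ l, i < D.rank := fun i hi => (hl i hi).2
  set n := prodA hR l with hn
  have hnX : ∀ x ∈ X, n * x * n⁻¹ ∈ X :=
    prodA_norm hR (fun i hi => hA i (hl i hi).1 (hl i hi).2)
  have hrad := radical_eq hR hT (F := F) J
  have hnR : ∀ g ∈ D.unipotentRadical F J, n * g * n⁻¹ ∈ D.unipotentRadical F J := by
    refine prodA_norm hR (fun i hi x hx => ?_)
    rw [hrad] at hx ⊢
    exact A_norm_radical hR hT hT2 (hl i hi).1 (hl i hi).2 hx
  set L : Subgroup (GL D.Idx F) := gen hR.toAddRel {r | D.IsPosRoot r ∧ D.InRootSub J r} with hL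
  have hLU : L ≤ D.posUnipotent F := by
    rw [posUnipotent_eq hR.toAddRel]
    exact gen_mono _ (fun r hr => hr.1)
  have hUsup : D.posUnipotent F ≤ D.unipotentRadical F J ⊔ L := by
    rw [posUnipotent_eq hR.toAddRel]
    refine gen_le _ ?_
    intro r hr t
    by_cases hrJ : D.InRootSub J r
    · exact Subgroup.mem_sup_right (X_mem_gen _ (show r ∈ {r | D.IsPosRoot r ∧ D.InRootSub J r} from ⟨hr, hrJ⟩) t)
    · apply Subgroup.mem_sup_left
      rw [hrad]
      exact X_mem_gen _ (show r ∈ psiJ D J from ⟨hr, hrJ⟩) t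
  have hnorm : ∀ h ∈ L, ∀ u ∈ D.unipotentRadical F J, h * u * h⁻¹ ∈ D.unipotentRadical F J := by
    intro h hh u hu
    have h1 := parabolic_le_norm hR hT hT2 J (U_le_parabolic hR hT J (hLU hh))
    exact (Subgroup.mem_normalizer_iff.mp h1 u).mp hu
  intro x hx
  obtain ⟨ρ, hρ, a, ha, rfl⟩ := (mem_sup_iff_of_norm hnorm).mp (hUsup (hXU hx))
  have hV : n * a * n⁻¹ ∈ D.negUnipotent F := by
    refine gen_induction hR.toAddRel
      (P := fun a => n * a * n⁻¹ ∈ D.negUnipotent F) (by simp) ?_ ?_ ha
    · intro r hr t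
      obtain ⟨-, κ, -, h⟩ := prodA_conj hR hT hl0 hr.1.1
      rw [hn, h t, negUnipotent_eq hR.toAddRel]
      exact X_mem_gen _ (hneg r hr.1 hr.2) _
    · intro u v hu hv
      have e : n * (u * v) * n⁻¹ = (n * u * n⁻¹) * (n * v * n⁻¹) := by group
      rw [e]
      exact Subgroup.mul_mem _ hu hv
  have hU : n * a * n⁻¹ ∈ D.posUnipotent F := by
    have h1 := hXU (hnX _ hx)
    have h2 := radical_le_U hR hT J (hnR _ hρ)
    have h3 := Subgroup.mul_mem _ (Subgroup.inv_mem _ h2) h1
    have e : (n * ρ * n⁻¹)⁻¹ * (n * (ρ * a) * n⁻¹) = n * a * n⁻¹ := by group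
    rwa [e] at h3
  have h1 : n * a * n⁻¹ ∈ D.borelSubgroup F ⊓ D.negUnipotent F := ⟨U_le_B hR hT hU, hV⟩
  rw [B_inf_V hR hT, Subgroup.mem_bot] at h1
  have h2 : a = 1 := by
    have e : a = n⁻¹ * (n * a * n⁻¹) * n := by group
    rw [e, h1]
    group
  rw [h2, mul_one]
  exact hρ

end Cfsg.Agent.Lib.ChevWC.Word
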